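import Cfsg.Agent.Lib.TensorMax63.Good

/-!
An orthogonal space of dimension nine which is the tensor square of an orthogonal space of dimension three:
the embedding, the swap, spinor characters and traces.
-/

set_option autoImplicit false
set_option linter.unusedSectionVars false
set_option linter.unusedSimpArgs false

namespace CfsgLib.TensorThree63

open Matrix QuadraticMap CfsgLib.Orth
open CfsgLib.GeomClasses (OrthTools.orth OrthTools.mem_orth)
open CfsgLib.TensorMax63 (toVec polar_toVec ext_polar negO app_negO detHom_negO cls cls_mul chiPair_cls IsFrame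
  exists_prod_refl twist_of_refl prod_cls cls_prod_units surj_of_plane Nondeg nondeg_top nondeg_inf
  finrank_inf_ge exists_partner' exists_aniso mem_orth_one eq_one_of_fix eich_mem_commutator chi_negO exists_fixed)

variable {ι : Type} [Fintype ι] [DecidableEq ι] {F : Type*} [Field F] [Fintype F]

/-- A tensor square decomposition of a nine-dimensional orthogonal space. -/
structure Setting (q : QuadraticForm F (ι → F)) (q₀ : QuadraticForm F (Fin 3 → F)) where
  /-- the pure tensors -/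
  τ : (Fin 3 → F) →ₗ[F] (Fin 3 → F) →ₗ[F] (ι → F)
  two : (2 : F) ≠ 0
  five : 5 ≤ Fintype.card F
  nine : Fintype.card ι = 9
  nd : q.polarBilin.Nondegenerate
  nd₀ : q₀.polarBilin.Nondegenerate
  polar_τ : ∀ a b a' b', polar q (τ a b) (τ a' b') = polar q₀ a a' * polar q₀ b b'
  span : Submodule.span F (Set.range fun p : (Fin 3 → F) × (Fin 3 → F) => τ p.1 p.2) = ⊤

variable {q : QuadraticForm F (ι → F)} {q₀ : QuadraticForm F (Fin 3 → F)} (X : Setting q q₀)

namespace Setting

/-- Contraction of the right factor with `φ`. -/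
noncomputable def C (φ : Fin 3 → F) : (ι → F) →ₗ[F] (Fin 3 → F) :=
  (toVec X.nd₀).comp (LinearMap.compl₂ q.polarBilin ((LinearMap.flip X.τ) φ))

theorem polar_C (φ : Fin 3 → F) (z : ι → F) (a : Fin 3 → F) :
    polar q₀ (X.C φ z) a = polar q z (X.τ a φ) := by
  rw [C, LinearMap.comp_apply, polar_toVec]
  rfl

theorem C_τ (φ : Fin 3 → F) (a : Fin 3 → F) (b : Fin 3 → F) :
    X.C φ (X.τ a b) = polar q₀ b φ • a := by
  refine ext_polar X.nd₀ fun a' => ?_
  rw [polar_C, X.polar_τ, polar_smul_left, smul_eq_mul, mul_comm]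

theorem C_add (φ ψ : Fin 3 → F) (z : ι → F) : X.C (φ + ψ) z = X.C φ z + X.C ψ z := by
  refine ext_polar X.nd₀ fun a => ?_
  rw [polar_add_left, polar_C, polar_C, polar_C, map_add, polar_add_right]

theorem C_smul (t : F) (φ : Fin 3 → F) (z : ι → F) : X.C (t • φ) z = t • X.C φ z := by
  refine ext_polar X.nd₀ fun a => ?_
  rw [polar_smul_left, polar_C, polar_C, map_smul, polar_smul_right]

theorem C_sub (φ ψ : Fin 3 → F) (z : ι → F) : X.C (φ - ψ) z = X.C φ z - X.C ψ z := by
  refine ext_polar X.nd₀ fun a => ?_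
  rw [polar_sub_left, polar_C, polar_C, polar_C, map_sub, polar_sub_right]

theorem C_zero (z : ι → F) : X.C 0 z = 0 := by
  refine ext_polar X.nd₀ fun a => ?_
  rw [polar_C, map_zero, polar_zero_right, polar_zero_left]

theorem eq_zero {z : ι → F} (h : ∀ φ, X.C φ z = 0) : z = 0 := by
  refine eq_zero_of_polar X.nd fun y => ?_
  have hy : y ∈ (⊤ : Submodule F (ι → F)) := trivial
  rw [← X.span] at hy
  induction hy using Submodule.span_induction with
  | mem y hy =>
    obtain ⟨⟨a, b⟩, rfl⟩ := hy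
    show polar q z (X.τ a b) = 0
    rw [← X.polar_C, h, polar_zero_left]
  | zero => exact polar_zero_right _ _
  | add x y _ _ hx hy => rw [polar_add_right, hx, hy, add_zero]
  | smul t x _ hx => rw [polar_smul_right, hx, smul_zero]

theorem ext_τ {M : Type*} [AddCommGroup M] [Module F M] {f g : (ι → F) →ₗ[F] M}
    (h : ∀ a b, f (X.τ a b) = g (X.τ a b)) : f = g :=
  LinearMap.ext_on_range X.span fun p => h p.1 p.2

theorem τ_inj_left {b : Fin 3 → F} (hb : b ≠ 0) {a : Fin 3 → F} (h : X.τ a b = 0) : a = 0 := by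
  obtain ⟨φ, hφ⟩ := exists_polar_eq_one X.nd₀ hb
  have := X.C_τ φ a b
  rwa [h, map_zero, hφ, one_smul, eq_comm] at this

theorem τ_inj_right {a : Fin 3 → F} (ha : a ≠ 0) {b : Fin 3 → F} (h : X.τ a b = 0) : b = 0 := by
  by_contra hb
  exact ha (X.τ_inj_left hb h)

theorem q_τ (a : Fin 3 → F) (b : Fin 3 → F) : q (X.τ a b) = 2 * q₀ a * q₀ b := by
  have h := X.polar_τ a b a b
  rw [polar_self', polar_self', polar_self'] at h
  refine mul_left_cancel₀ X.two ?_
  linear_combination h

theorem q_τ_singular (a : Fin 3 → F) {b : Fin 3 → F} (hb : q₀ b = 0) : q (X.τ a b) = 0 := by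
  rw [X.q_τ, hb, mul_zero]

/-- The tensor product of two linear maps. -/
noncomputable def lift (L : (Fin 3 → F) →ₗ[F] (Fin 3 → F)) (M : (Fin 3 → F) →ₗ[F] (Fin 3 → F)) :
    (ι → F) →ₗ[F] (ι → F) :=
  ∑ j : Fin 3, ((LinearMap.flip X.τ) (M (Pi.single j 1))).comp
    (L.comp (X.C (toVec X.nd₀ (LinearMap.proj j))))

theorem lift_τ (L : (Fin 3 → F) →ₗ[F] (Fin 3 → F)) (M : (Fin 3 → F) →ₗ[F] (Fin 3 → F))
    (a : Fin 3 → F) (b : Fin 3 → F) : X.lift L M (X.τ a b) = X.τ (L a) (M b) := by
  conv_rhs => rw [pi_eq_sum_univ' b, map_sum, map_sum]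
  rw [lift, LinearMap.sum_apply]
  refine Finset.sum_congr rfl fun j _ => ?_
  rw [LinearMap.comp_apply, LinearMap.comp_apply, LinearMap.flip_apply, X.C_τ, polar_comm, polar_toVec,
    LinearMap.proj_apply, map_smul, map_smul, LinearMap.smul_apply, map_smul, map_smul]

theorem q_of_polar {f : (ι → F) →ₗ[F] (ι → F)}
    (h : ∀ a b a' b', polar q (f (X.τ a b)) (f (X.τ a' b')) = polar q (X.τ a b) (X.τ a' b')) (z : ι → F) :
    q (f z) = q z := by
  have h1 : ∀ a b z, polar q (f (X.τ a b)) (f z) = polar q (X.τ a b) z := by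
    intro a b
    have := X.ext_τ (f := (q.polarBilin (f (X.τ a b))).comp f) (g := q.polarBilin (X.τ a b)) fun a' b' => h a b a' b'
    exact fun z => LinearMap.congr_fun this z
  have h3 : (q.polarBilin.flip (f z)).comp f = q.polarBilin.flip z := X.ext_τ fun a b => h1 a b z
  have h4 := LinearMap.congr_fun h3 z
  simp only [LinearMap.comp_apply, LinearMap.flip_apply, polarBilin_apply_apply, polar_self'] at h4
  exact mul_left_cancel₀ X.two h4

/-- The isometry `a ⊗ b`. -/
noncomputable def mkT (a : O q₀) (b : O q₀) : O q :=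
  mkO (X.lift (app a) (app b)) (X.lift (app a⁻¹) (app b⁻¹))
    (X.ext_τ fun x y => by
      simp [LinearMap.comp_apply, X.lift_τ, app_app_inv])
    (X.ext_τ fun x y => by
      simp [LinearMap.comp_apply, X.lift_τ, app_inv_app])
    (X.q_of_polar fun x y x' y' => by
      simp [X.lift_τ, X.polar_τ])

theorem app_mkT (a : O q₀) (b : O q₀) (x : Fin 3 → F) (y : Fin 3 → F) :
    app (X.mkT a b) (X.τ x y) = X.τ (app a x) (app b y) := by
  rw [mkT, app_mkO, X.lift_τ]

theorem ext_O {g h : O q} (H : ∀ a b, app g (X.τ a b) = app h (X.τ a b)) : g = h :=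
  ext_app fun x => LinearMap.congr_fun (X.ext_τ H) x

/-- The embedding of the product of the two isometry groups. -/
noncomputable def emb : O q₀ × O q₀ →* O q where
  toFun p := X.mkT p.1 p.2
  map_one' := X.ext_O fun a b => by rw [X.app_mkT]; simp
  map_mul' p p' := X.ext_O fun a b => by simp [X.app_mkT]

@[simp] theorem app_emb (p : O q₀ × O q₀) (x : Fin 3 → F) (y : Fin 3 → F) :
    app (X.emb p) (X.τ x y) = X.τ (app p.1 x) (app p.2 y) := X.app_mkT _ _ x y

/-- The isometries preserving the decomposition. -/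
noncomputable def T : Subgroup (O q) := X.emb.range

/-- The tensor stabiliser inside `Ω`. -/
noncomputable def H : Subgroup (O q) := X.T ⊓ commutator (O q)

theorem emb_mem_T (p : O q₀ × O q₀) : X.emb p ∈ X.T := ⟨p, rfl⟩

theorem C_emb (p : O q₀ × O q₀) (φ : Fin 3 → F) (z : ι → F) :
    X.C φ (app (X.emb p) z) = app p.1 (X.C (app p.2⁻¹ φ) z) := by
  have h : (X.C φ).comp (app (X.emb p)) = (app p.1).comp (X.C (app p.2⁻¹ φ)) := X.ext_τ fun a b => by
    rw [LinearMap.comp_apply, LinearMap.comp_apply, X.app_emb, X.C_τ, X.C_τ, map_smul,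
      ← polar_app p.2 b, app_app_inv]
  exact LinearMap.congr_fun h z


theorem toFlip_span :
    Submodule.span F (Set.range fun p : (Fin 3 → F) × (Fin 3 → F) => (LinearMap.flip X.τ) p.1 p.2) = ⊤ := by
  rw [eq_top_iff, ← X.span]
  refine Submodule.span_mono ?_
  rintro _ ⟨p, rfl⟩
  exact ⟨p.swap, rfl⟩

/-- The decomposition with the factors exchanged. -/
noncomputable def flip : Setting q q₀ where
  τ := LinearMap.flip X.τ
  two := X.two
  five := X.five
  nine := X.nine
  nd := X.nd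
  nd₀ := X.nd₀
  polar_τ a b a' b' := by simp only [LinearMap.flip_apply]; rw [X.polar_τ, mul_comm]
  span := X.toFlip_span

theorem flip_τ (a b : Fin 3 → F) : X.flip.τ a b = X.τ b a := rfl

theorem flip_flip : X.flip.flip = X := rfl

theorem emb_flip (a b : O q₀) : X.flip.emb (a, b) = X.emb (b, a) :=
  X.ext_O fun x y => by
    rw [X.app_emb, ← X.flip_τ, X.flip.app_emb, X.flip_τ]

theorem T_flip : X.flip.T = X.T := by
  ext g
  constructor
  · rintro ⟨⟨a, b⟩, rfl⟩; exact ⟨(b, a), (X.emb_flip a b).symm⟩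
  · rintro ⟨⟨a, b⟩, rfl⟩; exact ⟨(b, a), X.emb_flip b a⟩

theorem H_flip : X.flip.H = X.H := by rw [H, T_flip]; rfl

/-- The exchange of the factors. -/
noncomputable def swapMap : (ι → F) →ₗ[F] (ι → F) :=
  ∑ j : Fin 3, (X.τ (Pi.single j 1)).comp (X.C (toVec X.nd₀ (LinearMap.proj j)))

theorem swapMap_τ (a b : Fin 3 → F) : X.swapMap (X.τ a b) = X.τ b a := by
  conv_rhs => rw [pi_eq_sum_univ' b, map_sum, LinearMap.sum_apply]
  rw [swapMap, LinearMap.sum_apply]
  refine Finset.sum_congr rfl fun j _ => ?_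
  rw [LinearMap.comp_apply, X.C_τ, polar_comm, polar_toVec, LinearMap.proj_apply, map_smul, map_smul,
    LinearMap.smul_apply]

/-- The exchange of the factors as an isometry. -/
noncomputable def σ : O q :=
  mkO X.swapMap X.swapMap (X.ext_τ fun a b => by simp [swapMap_τ]) (X.ext_τ fun a b => by simp [swapMap_τ])
    (X.q_of_polar fun a b a' b' => by simp [swapMap_τ, X.polar_τ, mul_comm])

theorem app_σ (a b : Fin 3 → F) : app X.σ (X.τ a b) = X.τ b a := by rw [σ, app_mkO, swapMap_τ]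

theorem σ_σ : X.σ * X.σ = 1 := X.ext_O fun a b => by rw [app_mul, app_σ, app_σ, app_one]

theorem σ_emb (a b : O q₀) : X.σ * X.emb (a, b) = X.emb (b, a) * X.σ :=
  X.ext_O fun x y => by rw [app_mul, app_mul, X.app_emb, app_σ, app_σ, X.app_emb]

/-- Preserving the decomposition up to the exchange. -/
def InTw (g : O q) : Prop := g ∈ X.T ∨ g * X.σ ∈ X.T

theorem InTw.mul {g h : O q} (hg : X.InTw g) (hh : X.InTw h) : X.InTw (g * h) := by
  have hσ : ∀ {t : O q}, t ∈ X.T → X.σ * t * X.σ ∈ X.T := by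
    rintro t ⟨⟨a, b⟩, rfl⟩
    rw [X.σ_emb, mul_assoc, X.σ_σ, mul_one]
    exact X.emb_mem_T _
  rcases hg with hg | hg <;> rcases hh with hh | hh
  · exact Or.inl (X.T.mul_mem hg hh)
  · exact Or.inr (by rw [mul_assoc]; exact X.T.mul_mem hg hh)
  · refine Or.inr ?_
    have := X.T.mul_mem hg (hσ hh)
    rwa [show g * X.σ * (X.σ * h * X.σ) = g * (X.σ * X.σ) * h * X.σ by group, X.σ_σ, mul_one] at this
  · refine Or.inl ?_
    have := X.T.mul_mem hg (hσ hh)
    rwa [show g * X.σ * (X.σ * (h * X.σ) * X.σ) = g * (X.σ * X.σ) * h * (X.σ * X.σ) by group, X.σ_σ, mul_one,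
      mul_one] at this

theorem InTw.inv {g : O q} (hg : X.InTw g) : X.InTw g⁻¹ := by
  rcases hg with hg | hg
  · exact Or.inl (X.T.inv_mem hg)
  · refine Or.inr ?_
    obtain ⟨⟨a, b⟩, hab⟩ := hg
    refine ⟨(b⁻¹, a⁻¹), ?_⟩
    have hg' : g = X.emb (a, b) * X.σ := by rw [hab, mul_assoc, X.σ_σ, mul_one]
    rw [hg', _root_.mul_inv_rev, inv_eq_of_mul_eq_one_right X.σ_σ, ← map_inv, Prod.inv_mk, X.σ_emb, mul_assoc, X.σ_σ,
      mul_one]

variable [DecidableEq F]

theorem chi₁ {d : F} (hd : ¬ IsSquare d) :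
    ∃ e : ℤˣ × ℤˣ ≃* ℤˣ × ℤˣ, ∀ a, chiPair q d (X.emb (a, 1)) = e (chiPair q₀ d a) := by
  classical
  obtain ⟨f, hf⟩ := IsFrame.exists_mem X.nd₀ X.two
  set c := ((-1 : ℤˣ), (1 : ℤˣ)) * ∏ j : Fin 3, cls (2 * q₀ (f j)) with hc
  refine twist_of_refl X.two X.nd₀ (by simp) hd
    (X.emb.comp (MonoidHom.inl _ _)) c (fun v hv => ?_) ?_
  · obtain ⟨g, hg, hgz⟩ := exists_prod_refl (p := q) X.two hd (fun j => X.τ v (f j)) Finset.univ
      (fun j _ => by rw [X.q_τ]; exact mul_ne_zero (mul_ne_zero X.two hv) (hf.ne j))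
      (fun i _ j _ hij => by rw [X.polar_τ, hf.ortho i j hij, mul_zero])
    have hge : g = X.emb (refl q₀ v, 1) := X.ext_O fun x y => by
      rw [hgz, X.app_emb, app_one, app_refl, map_sub, LinearMap.sub_apply, map_smul, LinearMap.smul_apply,
        sub_right_inj]
      conv_rhs => rw [hf.sum_eq X.two y, map_sum, Finset.smul_sum]
      refine Finset.sum_congr rfl fun j _ => ?_
      rw [map_smul, smul_smul, X.polar_τ, X.q_τ]
      congr 1
      have := hf.ne j
      have := X.two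
      field_simp
    show chiPair q d (X.emb (refl q₀ v, 1)) = _
    rw [← hge, hg, hc, ← prod_cls X.two Finset.univ (by decide) _
      (fun j _ => mul_ne_zero X.two (hf.ne j)) hv]
    exact Finset.prod_congr rfl fun j _ => by rw [X.q_τ]; ring_nf
  · rw [hc, Prod.fst_mul, Prod.snd_mul, Prod.fst_prod, Prod.snd_prod, mul_mul_mul_comm,
      ← Finset.prod_mul_distrib, Finset.prod_congr rfl (fun j _ => cls_prod_units _), Finset.prod_const,
      Finset.card_univ, Fintype.card_fin, (by decide : Odd 3).neg_one_pow]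
    decide

/-- A non-square. -/
noncomputable def d : F := Classical.choose (CfsgLib.OrthOmega.exists_not_square X.two)

theorem d_spec : ¬ IsSquare X.d := Classical.choose_spec (CfsgLib.OrthOmega.exists_not_square X.two)

/-- The two spinor characters of a factor. -/
noncomputable def χ : O q₀ →* ℤˣ × ℤˣ := chiPair q₀ X.d

theorem χ_apply (a : O q₀) : X.χ a = chiPair q₀ X.d a := rfl

theorem χ_sq (a : O q₀) : X.χ a * X.χ a = 1 := Prod.ext (Int.units_mul_self _) (Int.units_mul_self _)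

theorem χ_eq_one {a : O q₀} : X.χ a = 1 ↔ a ∈ commutator (O q₀) := by
  rw [commutator_eq X.nd₀ X.two X.d_spec, MonoidHom.mem_ker]; rfl

theorem χ_conj (g a : O q₀) : X.χ (g * a * g⁻¹) = X.χ a := by
  rw [map_mul, map_mul, map_inv, mul_comm (X.χ g), mul_inv_cancel_right]

theorem χ_det {a b : O q₀} (h : X.χ a = X.χ b) : detHom q₀ a = detHom q₀ b := by
  rw [detHom_eq X.nd₀ X.two X.d_spec, detHom_eq X.nd₀ X.two X.d_spec]
  have h1 : chi q₀ 1 a = chi q₀ 1 b := congrArg Prod.fst h
  have h2 : chi q₀ X.d a = chi q₀ X.d b := congrArg Prod.snd h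
  rw [h1, h2]

theorem emb_mem_omega {a b : O q₀} : X.emb (a, b) ∈ commutator (O q) ↔ X.χ a = X.χ b := by
  obtain ⟨e, he⟩ := X.chi₁ X.d_spec
  have h2 : chiPair q X.d (X.emb (1, b)) = chiPair q X.d (X.emb (b, 1)) := by
    have h := congrArg (chiPair q X.d) (X.σ_emb b 1)
    rw [map_mul, map_mul, mul_comm] at h
    exact (mul_right_cancel h).symm
  rw [commutator_eq X.nd X.two X.d_spec, MonoidHom.mem_ker, show (a, b) = (a, (1 : O q₀)) * ((1 : O q₀), b) by simp,
    map_mul, map_mul, h2, he, he, ← map_mul, MulEquiv.map_eq_one_iff]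
  show X.χ a * X.χ b = 1 ↔ _
  rw [mul_eq_one_iff_eq_inv, inv_eq_of_mul_eq_one_right (X.χ_sq b)]

theorem emb_H {a b : O q₀} (h : X.χ a = X.χ b) : X.emb (a, b) ∈ X.H := ⟨X.emb_mem_T _, X.emb_mem_omega.2 h⟩

theorem diag_H (g : O q₀) : X.emb (g, g) ∈ X.H := X.emb_H rfl

include X in
theorem detHom_cases (a : O q₀) : detHom q₀ a = 1 ∨ detHom q₀ a = -1 := by
  rw [detHom_eq X.nd₀ X.two X.d_spec]
  rcases Int.units_eq_one_or (chi q₀ 1 a * chi q₀ X.d a) with h | h <;> rw [h]
  · left; simp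
  · right; ext; simp

theorem emb_neg (a b : O q₀) : X.emb (negO q₀ * a, negO q₀ * b) = X.emb (a, b) :=
  X.ext_O fun x y => by simp [app_negO]

theorem normalise {g : O q} (hg : g ∈ X.T) (hΩ : g ∈ commutator (O q)) :
    ∃ a b, detHom q₀ a = 1 ∧ detHom q₀ b = 1 ∧ X.χ a = X.χ b ∧ g = X.emb (a, b) := by
  obtain ⟨⟨a, b⟩, rfl⟩ := hg
  rcases X.detHom_cases a with h | h
  · have hχ := X.emb_mem_omega.1 hΩ
    exact ⟨a, b, h, X.χ_det hχ ▸ h, hχ, rfl⟩
  · have hn : detHom q₀ (negO q₀ * a) = 1 := by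
      rw [map_mul, h, detHom_negO q₀ (by decide), neg_one_mul, neg_neg]
    rw [← X.emb_neg] at hΩ
    have hχ := X.emb_mem_omega.1 hΩ
    exact ⟨_, _, hn, X.χ_det hχ ▸ hn, hχ, (X.emb_neg a b).symm⟩

theorem emb_inj {a a' b b' : O q₀} (ha : detHom q₀ a = 1) (ha' : detHom q₀ a' = 1)
    (h : X.emb (a, b) = X.emb (a', b')) : a = a' ∧ b = b' := by
  have key : ∀ {a b : O q₀}, detHom q₀ a = 1 → X.emb (a, b) = 1 → a = 1 ∧ b = 1 := by
    intro a b ha h
    have key : ∀ x y, X.τ (app a x) (app b y) = X.τ x y := fun x y => by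
      rw [← X.app_emb (a, b), h, app_one]
    obtain ⟨e, he⟩ := exists_anisotropic X.nd₀ (by simp)
    have he0 : e ≠ 0 := fun h => he (by rw [h, QuadraticMap.map_zero])
    obtain ⟨φ, hφ⟩ := exists_polar_eq_one X.nd₀ (v := app b e)
      (fun h0 => he0 (app_injective b (by rw [h0, map_zero])))
    have hax : ∀ x, app a x = polar q₀ e φ • x := fun x => by
      have := congrArg (X.C φ) (key x e)
      rwa [X.C_τ, X.C_τ, hφ, one_smul] at this
    have hl2 : polar q₀ e φ * polar q₀ e φ = 1 := by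
      have := Q_app a e
      rw [hax, QuadraticMap.map_smul, smul_eq_mul] at this
      exact mul_right_cancel₀ he (this.trans (one_mul _).symm)
    have ha1 : a = 1 := by
      rcases mul_self_eq_one_iff.1 hl2 with h1 | h1
      · exact ext_app fun x => by rw [hax, h1, one_smul, app_one]
      · exfalso
        have hneg : a = negO q₀ := ext_app fun x => by rw [hax, h1, neg_one_smul, app_negO]
        rw [hneg, detHom_negO q₀ (by decide)] at ha
        exact X.two (by have := congrArg Units.val ha; simp at this; linear_combination -this)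
    refine ⟨ha1, ext_app fun y => ?_⟩
    have := key e y
    rw [ha1, app_one, ← sub_eq_zero, ← map_sub] at this
    rw [app_one]
    exact sub_eq_zero.1 (X.τ_inj_right he0 this)
  obtain ⟨h1, h3⟩ := key (a := a * a'⁻¹) (b := b * b'⁻¹) (by rw [map_mul, map_inv, ha, ha', inv_one, mul_one]) (by
    rw [show (a * a'⁻¹, b * b'⁻¹) = (a, b) * (a', b')⁻¹ from rfl, map_mul, map_inv, h, mul_inv_cancel])
  exact ⟨mul_inv_eq_one.1 h1, mul_inv_eq_one.1 h3⟩

/-- The trace of an element. -/
noncomputable def _root_.CfsgLib.TensorThree63.tr {κ : Type} [Fintype κ] [DecidableEq κ] {p : QuadraticForm F (κ → F)}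
    (g : O p) : F := LinearMap.trace F (κ → F) (app g)

theorem _root_.CfsgLib.TensorThree63.tr_conj {κ : Type} [Fintype κ] [DecidableEq κ]
    {p : QuadraticForm F (κ → F)} (u g : O p) : tr (u * g * u⁻¹) = tr g := by
  have h : ∀ x y : O p, app (x * y) = (app x) * (app y) := fun x y => LinearMap.ext fun z => app_mul x y z
  have h1 : app (1 : O p) = 1 := LinearMap.ext fun z => app_one z
  rw [tr, tr, h, LinearMap.trace_mul_comm, ← h, ← mul_assoc, inv_mul_cancel, one_mul]

include X in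
theorem tr₀_frame {f : Fin 3 → Fin 3 → F} (hf : IsFrame q₀ f) (a : O q₀) :
    tr a = ∑ i, (2 * q₀ (f i))⁻¹ * polar q₀ (app a (f i)) (f i) := by
  have h : app a = ∑ i, ((2 * q₀ (f i))⁻¹ • q₀.polarBilin (f i)).smulRight (app a (f i)) := LinearMap.ext fun y => by
    rw [LinearMap.sum_apply]
    conv_lhs => rw [hf.sum_eq X.two y, map_sum]
    refine Finset.sum_congr rfl fun i _ => ?_
    rw [map_smul, LinearMap.smulRight_apply, LinearMap.smul_apply, polarBilin_apply_apply, polar_comm, smul_eq_mul]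
  rw [tr, h, map_sum]
  refine Finset.sum_congr rfl fun i _ => ?_
  rw [LinearMap.trace_smulRight, LinearMap.smul_apply, polarBilin_apply_apply, polar_comm, smul_eq_mul, ← h]

theorem tr_frame {f : Fin 3 → Fin 3 → F} (hf : IsFrame q₀ f) (g : O q) :
    tr g = ∑ i, ∑ j, (2 * q₀ (f i))⁻¹ * (2 * q₀ (f j))⁻¹ *
      polar q (app g (X.τ (f i) (f j))) (X.τ (f i) (f j)) := by
  have h : app g = ∑ i, ∑ j, (((2 * q₀ (f i))⁻¹ * (2 * q₀ (f j))⁻¹) •
      q.polarBilin (X.τ (f i) (f j))).smulRight (app g (X.τ (f i) (f j))) := X.ext_τ fun x y => by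
    conv_lhs => rw [hf.sum_eq X.two x, hf.sum_eq X.two y]
    simp only [map_sum, LinearMap.sum_apply, map_smul, LinearMap.smul_apply]
    simp only [Finset.smul_sum]
    rw [Finset.sum_comm]
    refine Finset.sum_congr rfl fun i _ => Finset.sum_congr rfl fun j _ => ?_
    rw [LinearMap.smulRight_apply, LinearMap.smul_apply, polarBilin_apply_apply, X.polar_τ, smul_smul,
      polar_comm (f := ⇑q₀) x, polar_comm (f := ⇑q₀) y, smul_eq_mul]
    congr 1
    ring
  rw [tr, h, map_sum]
  refine Finset.sum_congr rfl fun i _ => ?_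
  rw [map_sum]
  refine Finset.sum_congr rfl fun j _ => ?_
  rw [LinearMap.trace_smulRight, LinearMap.smul_apply, polarBilin_apply_apply, polar_comm, smul_eq_mul, ← h]

theorem tr_emb (a b : O q₀) : tr (X.emb (a, b)) = tr a * tr b := by
  obtain ⟨f, hf⟩ := IsFrame.exists_mem X.nd₀ X.two
  rw [X.tr_frame hf, X.tr₀_frame hf, X.tr₀_frame hf, Finset.sum_mul_sum]
  refine Finset.sum_congr rfl fun i _ => Finset.sum_congr rfl fun j _ => ?_
  rw [X.app_emb, X.polar_τ]
  ring

theorem tr_emb_σ (a : O q₀) : tr (X.emb (a, a⁻¹) * X.σ) = 3 := by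
  obtain ⟨f, hf⟩ := IsFrame.exists_mem X.nd₀ X.two
  rw [X.tr_frame hf, Finset.sum_comm]
  have h1 : ∀ j : Fin 3, (1 : F) = ∑ i, (2 * q₀ (f i))⁻¹ * (2 * q₀ (f j))⁻¹ *
      polar q (app (X.emb (a, a⁻¹) * X.σ) (X.τ (f i) (f j))) (X.τ (f i) (f j)) := by
    intro j
    have h := congrArg (fun y => polar q₀ y (app a (f j))) (hf.sum_eq X.two (app a (f j)))
    simp only [← polarBilin_apply_apply, map_sum, LinearMap.sum_apply, map_smul, LinearMap.smul_apply,
      smul_eq_mul] at h
    simp only [polarBilin_apply_apply, polar_self', Q_app] at h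
    have hj := mul_ne_zero X.two (hf.ne j)
    refine mul_left_cancel₀ hj ?_
    rw [mul_one, Finset.mul_sum]
    conv_lhs => rw [h]
    refine Finset.sum_congr rfl fun i _ => ?_
    have e : polar q₀ (app a⁻¹ (f i)) (f j) = polar q₀ (f i) (app a (f j)) := by
      rw [← polar_app a, app_app_inv]
    rw [app_mul, X.app_σ, X.app_emb, X.polar_τ, e, polar_comm (f := ⇑q₀) (f i) (app a (f j))]
    have := hf.ne i
    have := hf.ne j
    have := X.two
    field_simp
  rw [Finset.sum_congr rfl fun j _ => (h1 j).symm]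
  simp

end Setting

end CfsgLib.TensorThree63
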