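import Cfsg.Agent.Lib.TensorThree63.Root

/-!
An element of a proper overgroup of the wreathed tensor stabiliser centralising a pure root element preserves
the decomposition.
-/

set_option autoImplicit false
set_option linter.unusedSectionVars false
set_option linter.unusedSimpArgs false

namespace CfsgLib.TensorThree63

open Matrix QuadraticMap CfsgLib.Orth
open CfsgLib.GeomClasses (OrthTools.orth OrthTools.mem_orth)
open CfsgLib.TensorMax63 (ext_polar Hyp mid mem_mid exists_hyp eich_mem_commutator)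

variable {ι : Type} [Fintype ι] [DecidableEq ι] {F : Type*} [Field F] [Fintype F] [DecidableEq F]
  {q : QuadraticForm F (ι → F)} {q₀ : QuadraticForm F (Fin 3 → F)} (X : Setting q q₀)

namespace Setting

variable {M : Subgroup (O q)}

theorem app_R {w b : Fin 3 → F} (hw : q₀ w = 0) (hb : polar q₀ w b = 0) (z : ι → F) :
    app (X.emb (1, eich q₀ w b)) z =
      z + X.τ (X.C w z) b + X.τ (-(X.C b z) - q₀ b • X.C w z) w := by
  have h : app (X.emb (1, eich q₀ w b)) = LinearMap.id + ((LinearMap.flip X.τ) b).comp (X.C w) +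
      ((LinearMap.flip X.τ) w).comp (-(X.C b) - q₀ b • X.C w) := X.ext_τ fun a c => by
    simp only [X.app_emb, app_one, app_eich hw hb, LinearMap.add_apply, LinearMap.id_apply, LinearMap.comp_apply,
      LinearMap.flip_apply, LinearMap.sub_apply, LinearMap.neg_apply, LinearMap.smul_apply, X.C_τ, map_add,
      map_smul, map_sub, map_neg]
    module
  rw [h]
  rfl

theorem sub_one_mul_comm {A : Type*} [Ring A] {x y : A} (h : x * y = y * x) :
    (x - 1) * (y - 1) = (y - 1) * (x - 1) := by
  simp only [sub_mul, mul_sub, one_mul, mul_one, h]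
  abel

theorem sub_one_pow_char {A : Type*} [Ring A] (p : ℕ) [Fact p.Prime] [CharP A p] {x : A} (h : x ^ p = 1) :
    (x - 1) ^ p = 0 := by
  rw [sub_pow_char_of_commute p (Commute.one_right x), h, one_pow, sub_self]

/-- The isometries fixing a slice which are the identity on its orthogonal modulo the slice. -/
def InQ (w : Fin 3 → F) (y : O q) : Prop :=
  (∀ x, app y (X.τ x w) = X.τ x w) ∧ ∀ z, X.C w z = 0 → ∃ x, app y z - z = X.τ x w

theorem C_app_fix {w : Fin 3 → F} {y : O q} (hy : ∀ x, app y (X.τ x w) = X.τ x w) (z : ι → F) :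
    X.C w (app y z) = X.C w z := by
  refine ext_polar X.nd₀ fun a => ?_
  rw [X.polar_C, X.polar_C]
  conv_lhs => rw [← hy a, polar_app]

theorem InQ.inv {w : Fin 3 → F} {y : O q} (hy : ∀ x, app y (X.τ x w) = X.τ x w) (x : Fin 3 → F) :
    app y⁻¹ (X.τ x w) = X.τ x w := by
  conv_lhs => rw [← hy x, app_inv_app]


theorem InQ.comm (hO : X.Over M) {w w' : Fin 3 → F} (P : Hyp q₀ w w') {y y' : O q} (hyM : y ∈ M)
    (hyM' : y' ∈ M) (hy : X.InQ w y) (hy' : X.InQ w y') : y * y' = y' * y := by
  set k := y * y' * (y' * y)⁻¹ with hk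
  suffices k = 1 by rwa [mul_inv_eq_one] at this
  refine Over.inZ_eq_one X hO P (M.mul_mem (M.mul_mem hyM hyM') (M.inv_mem (M.mul_mem hyM' hyM))) ⟨fun x => ?_, ?_⟩
  · rw [hk, _root_.mul_inv_rev, app_mul, app_mul, app_mul, InQ.inv X hy'.1, InQ.inv X hy.1, hy'.1, hy.1]
  intro z
  obtain ⟨z, rfl⟩ : ∃ t, app (y' * y) t = z := ⟨app (y' * y)⁻¹ z, app_app_inv _ z⟩
  obtain ⟨r, hr⟩ := hy.2 (app y' z - z) (by rw [map_sub, X.C_app_fix hy'.1, sub_self])
  obtain ⟨r', hr'⟩ := hy'.2 (app y z - z) (by rw [map_sub, X.C_app_fix hy.1, sub_self])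
  refine ⟨r - r', ?_⟩
  rw [hk, ← app_mul, inv_mul_cancel_right, app_mul, app_mul, map_sub, LinearMap.sub_apply, ← hr, ← hr', map_sub,
    map_sub]
  abel

/-- The middle part of an element at the partner slice. -/
noncomputable def mov (y : O q) (w' : Fin 3 → F) : (Fin 3 → F) →ₗ[F] (ι → F) :=
  (app y - LinearMap.id).comp ((LinearMap.flip X.τ) w')

theorem mov_apply (y : O q) (w' : Fin 3 → F) (x : Fin 3 → F) :
    X.mov y w' x = app y (X.τ x w') - X.τ x w' := rfl

theorem C_mov {w w' : Fin 3 → F} {y : O q} (hy : ∀ x, app y (X.τ x w) = X.τ x w) (x : Fin 3 → F) :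
    X.C w (X.mov y w' x) = 0 := by
  rw [mov_apply, map_sub, X.C_app_fix hy, sub_self]

theorem symm_of_comm {w w' : Fin 3 → F} {y y' : O q} (hy : X.InQ w y) (hy' : X.InQ w y')
    (hc : y * y' = y' * y) (x x'' : Fin 3 → F) :
    polar q (X.mov y' w' x) (X.mov y w' x'') = polar q (X.mov y w' x) (X.mov y' w' x'') := by
  have key : ∀ {y : O q}, X.InQ w y → ∀ v, X.C w v = 0 →
      polar q (app y v - v) (X.τ x'' w') = -polar q v (X.mov y w' x'') := by
    intro y hy v hv
    obtain ⟨s, hs⟩ := hy.2 v hv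
    have h := polar_app y v (X.τ x'' w')
    have e : app y v = v + (app y v - v) := by abel
    have e' : app y (X.τ x'' w') = X.τ x'' w' + X.mov y w' x'' := by rw [mov_apply]; abel
    have h0 : polar q (X.τ s w) (X.mov y w' x'') = 0 := by
      rw [polar_comm, ← X.polar_C, X.C_mov hy.1, polar_zero_left]
    rw [e, e', polar_add_left, polar_add_right, polar_add_right, hs, h0, ← hs] at h
    linear_combination h
  have h : app y (X.mov y' w' x) - X.mov y' w' x = app y' (X.mov y w' x) - X.mov y w' x := by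
    have h1 := congrArg (fun g => app g (X.τ x w')) hc
    simp only [app_mul] at h1
    rw [mov_apply, mov_apply, map_sub, map_sub, h1]
    abel
  have : polar q (app y (X.mov y' w' x) - X.mov y' w' x) (X.τ x'' w') =
      polar q (app y' (X.mov y w' x) - X.mov y w' x) (X.τ x'' w') := by rw [h]
  rw [key hy _ (X.C_mov hy'.1 x), key hy' _ (X.C_mov hy.1 x)] at this
  exact neg_injective this

include X in
/-- Self-adjoint operators commuting with their conjugates under the root groups are scalars. -/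
theorem scalar_of_conj (S : (Fin 3 → F) →ₗ[F] (Fin 3 → F))
    (hS : ∀ x y, polar q₀ (S x) y = polar q₀ x (S y))
    (hc : ∀ g ∈ commutator (O q₀), ∀ x, S (app g (S (app g⁻¹ x))) = app g (S (app g⁻¹ (S x)))) :
    ∃ l : F, ∀ x, S x = l • x := by
  classical
  by_contra hns
  let cj : O q₀ → Module.End F (Fin 3 → F) := fun g => (app g) * S * (app g⁻¹)
  have happ : ∀ g h : O q₀, app (g * h) = app g * app h := fun g h => LinearMap.ext fun z => app_mul g h z
  have happ1 : app (1 : O q₀) = 1 := LinearMap.ext fun z => app_one z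
  have hinv : ∀ g : O q₀, app g⁻¹ * app g = 1 := fun g => by rw [← happ, inv_mul_cancel, happ1]
  have hinv' : ∀ g : O q₀, app g * app g⁻¹ = 1 := fun g => by rw [← happ, mul_inv_cancel, happ1]
  set gens : Set (Module.End F (Fin 3 → F)) := insert 1 {r | ∃ g ∈ commutator (O q₀), r = cj g} with hgens
  set R := Submodule.span F gens with hR
  have hS0 : S ∈ R := Submodule.subset_span (Set.mem_insert_of_mem _ ⟨1, one_mem _, by
    show S = app 1 * S * app 1⁻¹
    rw [inv_one, happ1, one_mul, mul_one]⟩)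
  have hcomm : ∀ a ∈ R, ∀ b ∈ R, a * b = b * a := by
    have h1 : ∀ g ∈ commutator (O q₀), S * cj g = cj g * S := fun g hg => LinearMap.ext fun x => hc g hg x
    have h2 : ∀ a ∈ gens, ∀ b ∈ gens, a * b = b * a := by
      rintro a (rfl | ⟨g, hg, rfl⟩) b (rfl | ⟨h, hh, rfl⟩) <;> try simp only [one_mul, mul_one]
      have := h1 _ (mul_mem (inv_mem hg) hh)
      show app g * S * app g⁻¹ * (app h * S * app h⁻¹) = app h * S * app h⁻¹ * (app g * S * app g⁻¹)
      have e : cj (g⁻¹ * h) = app g⁻¹ * (app h * S * app h⁻¹) * app g := by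
        show app (g⁻¹ * h) * S * app (g⁻¹ * h)⁻¹ = _
        rw [_root_.mul_inv_rev, inv_inv, happ, happ]
        simp only [mul_assoc]
      rw [e] at this
      calc app g * S * app g⁻¹ * (app h * S * app h⁻¹)
          = app g * (S * (app g⁻¹ * (app h * S * app h⁻¹) * app g)) * app g⁻¹ := by
            simp only [mul_assoc, hinv', mul_one]
        _ = _ := by
            rw [this]
            simp only [← mul_assoc, hinv', one_mul]
    intro a ha b hb
    induction ha using Submodule.span_induction with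
    | mem a ha =>
      induction hb using Submodule.span_induction with
      | mem b hb => exact h2 a ha b hb
      | zero => rw [mul_zero, zero_mul]
      | add x y _ _ hx hy => rw [mul_add, add_mul, hx, hy]
      | smul t x _ hx => rw [mul_smul_comm, smul_mul_assoc, hx]
    | zero => rw [mul_zero, zero_mul]
    | add x y _ _ hx hy => rw [mul_add, add_mul, hx, hy]
    | smul t x _ hx => rw [mul_smul_comm, smul_mul_assoc, hx]
  have hadj : ∀ a ∈ R, ∀ x y, polar q₀ (a x) y = polar q₀ x (a y) := by
    intro a ha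
    induction ha using Submodule.span_induction with
    | mem a ha =>
      rcases ha with rfl | ⟨g, hg, rfl⟩
      · intro x y; rfl
      · intro x y
        show polar q₀ (app g (S (app g⁻¹ x))) y = polar q₀ x (app g (S (app g⁻¹ y)))
        conv_lhs => rw [← app_app_inv g y, polar_app, hS]
        conv_rhs => rw [← app_app_inv g x, polar_app]
    | zero => intro x y; simp
    | add u v _ _ hu hv => intro x y; simp [polar_add_left, polar_add_right, hu x y, hv x y]
    | smul t u _ hu => intro x y; simp [polar_smul_left, polar_smul_right, hu x y]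
  -- conjugation operators
  let κ : O q₀ → Module.End F (Module.End F (Fin 3 → F)) := fun g =>
    (LinearMap.mulLeft F (app g)).comp (LinearMap.mulRight F (app g⁻¹))
  have hκ : ∀ g a, κ g a = app g * (a * app g⁻¹) := fun g a => rfl
  have hκmul : ∀ g h, κ g * κ h = κ (g * h) := fun g h => LinearMap.ext fun a => by
    rw [Module.End.mul_apply, hκ, hκ, hκ, _root_.mul_inv_rev, happ, happ]
    simp only [mul_assoc]
  have hκ1 : κ 1 = 1 := LinearMap.ext fun a => by
    rw [hκ, inv_one, happ1, one_mul, mul_one]; rfl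
  have hκR : ∀ g ∈ commutator (O q₀), ∀ a ∈ R, κ g a ∈ R := by
    intro g hg a ha
    induction ha using Submodule.span_induction with
    | mem a ha =>
      refine Submodule.subset_span ?_
      rcases ha with rfl | ⟨h, hh, rfl⟩
      · exact Or.inl (by rw [hκ, one_mul, hinv'])
      · refine Or.inr ⟨g * h, mul_mem hg hh, ?_⟩
        show app g * (app h * S * app h⁻¹ * app g⁻¹) = app (g * h) * S * app (g * h)⁻¹
        rw [_root_.mul_inv_rev, happ, happ]
        simp only [mul_assoc]
    | zero => rw [map_zero]; exact zero_mem _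
    | add x y _ _ hx hy => rw [map_add]; exact add_mem hx hy
    | smul t x _ hx => rw [map_smul]; exact Submodule.smul_mem _ t hx
  -- a root group
  obtain ⟨e, he, he0⟩ := X.exists_singular₀
  obtain ⟨e', c, E⟩ := X.exists_tri he he0
  have hu0 : ∀ t : F, polar q₀ e (t • c) = 0 := fun t => by rw [polar_smul_right, E.ec, smul_zero]
  let u : F → O q₀ := fun t => eich q₀ e (t • c)
  have hu : ∀ t, u t ∈ commutator (O q₀) := fun t => eich_mem_commutator X.nd₀ X.two he (hu0 t)
  have huadd : ∀ s t, u s * u t = u (s + t) := fun s t => by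
    show eich q₀ e (s • c) * eich q₀ e (t • c) = eich q₀ e ((s + t) • c)
    rw [eich_add he (hu0 s) (hu0 t), add_smul]
  have huz : u 0 = 1 := by
    show eich q₀ e ((0 : F) • c) = 1
    rw [zero_smul, ← zero_smul F e, eich_smul_self he]
  let D : F → Module.End F (Module.End F (Fin 3 → F)) := fun t => κ (u t) - 1
  have hD : ∀ s t a, D s (D t a) = D t (D s a) := fun s t a => by
    show (κ (u s) - 1) ((κ (u t) - 1) a) = (κ (u t) - 1) ((κ (u s) - 1) a)
    rw [← Module.End.mul_apply, ← Module.End.mul_apply]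
    congr 1
    refine sub_one_mul_comm (A := Module.End F (Module.End F (Fin 3 → F))) ?_
    rw [hκmul, hκmul, huadd, huadd, add_comm s t]
  have hD1 : ∀ t, D t 1 = 0 := fun t => by
    show κ (u t) 1 - 1 = 0
    rw [hκ, one_mul, hinv', sub_self]
  obtain ⟨p, hp⟩ : ∃ p, CharP F p := CharP.exists F
  haveI : Fact p.Prime := ⟨CharP.char_is_prime F p⟩
  have hDp : ∀ t, D t ^ p = 0 := fun t => by
    haveI : CharP (Module.End F (Module.End F (Fin 3 → F))) p :=
      charP_of_injective_algebraMap (algebraMap F _).injective p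
    have hpow : ∀ n : ℕ, κ (u t) ^ n = κ (u ((n : F) * t)) := by
      intro n
      induction n with
      | zero => rw [pow_zero, Nat.cast_zero, zero_mul, huz, hκ1]
      | succ n ih => rw [pow_succ, ih, hκmul, huadd, Nat.cast_succ, add_mul, one_mul]
    show (κ (u t) - 1) ^ p = 0
    refine sub_one_pow_char (A := Module.End F (Module.End F (Fin 3 → F))) p ?_
    rw [hpow, CharP.cast_eq_zero, zero_mul, huz, hκ1]
  set Z : Submodule F (Module.End F (Fin 3 → F)) := Submodule.span F {1} with hZ
  haveI : Finite (Module.End F (Fin 3 → F)) := Module.finite_of_finite F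
  haveI : Finite (Submodule F (Module.End F (Fin 3 → F))) := Finite.of_injective _ SetLike.coe_injective
  have hRZ : ¬ R ≤ Z := fun h => hns <| by
    obtain ⟨l, hl⟩ := Submodule.mem_span_singleton.1 (h hS0)
    exact ⟨l, fun x => by rw [← hl]; rfl⟩
  obtain ⟨R', ⟨hR'R, h1R', hR'inv, hR'Z⟩, hmin⟩ := Set.Finite.exists_minimal
    (s := {N : Submodule F (Module.End F (Fin 3 → F)) | N ≤ R ∧ (1 : Module.End F (Fin 3 → F)) ∈ N ∧
      (∀ t, ∀ a ∈ N, D t a ∈ N) ∧ ¬ N ≤ Z}) (Set.toFinite _) ⟨R, le_refl _, Submodule.subset_span (Set.mem_insert _ _),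
      fun t a ha => sub_mem (hκR _ (hu t) a ha) ha, hRZ⟩
  have hstep : ∀ t, ∀ a ∈ R', D t a ∈ Z := by
    intro t
    by_contra hc'
    push Not at hc'
    obtain ⟨a₀, ha₀, ha₀'⟩ := hc'
    have hle : R'.map (D t) ⊔ Z ≤ R' := sup_le (Submodule.map_le_iff_le_comap.2 fun a ha => hR'inv t a ha)
      ((Submodule.span_singleton_le_iff_mem _ _).2 h1R')
    have heq : R' ≤ R'.map (D t) ⊔ Z := hmin ⟨hle.trans hR'R, Submodule.mem_sup_right (Submodule.mem_span_singleton_self _), by
      intro s a ha
      obtain ⟨x, hx, z, hz, rfl⟩ := Submodule.mem_sup.1 ha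
      obtain ⟨x, hx', rfl⟩ := hx
      obtain ⟨k, rfl⟩ := Submodule.mem_span_singleton.1 hz
      rw [map_add, map_smul, hD1, smul_zero, add_zero, hD]
      exact Submodule.mem_sup_left (Submodule.mem_map_of_mem (hR'inv s x hx')),
      fun h => ha₀' (h (Submodule.mem_sup_left (Submodule.mem_map_of_mem ha₀)))⟩ hle
    have hn : ∀ n : ℕ, R' ≤ R'.map (D t ^ n) ⊔ Z := by
      intro n
      induction n with
      | zero => rw [pow_zero]; intro a ha; exact Submodule.mem_sup_left ⟨a, ha, rfl⟩
      | succ n ih =>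
        refine ih.trans (sup_le ?_ le_sup_right)
        rintro _ ⟨a, ha, rfl⟩
        obtain ⟨x, ⟨y, hy, rfl⟩, z, hz, rfl⟩ := Submodule.mem_sup.1 (heq ha)
        obtain ⟨k, rfl⟩ := Submodule.mem_span_singleton.1 hz
        rw [map_add, map_smul]
        rcases n with _ | m
        · exact add_mem (Submodule.mem_sup_left ⟨y, hy, by simp⟩)
            (Submodule.mem_sup_right (Submodule.smul_mem _ k (by simp [hZ, Submodule.mem_span_singleton_self])))
        · rw [show (D t ^ (m + 1)) 1 = 0 by rw [pow_succ, Module.End.mul_apply, hD1, map_zero], smul_zero, add_zero]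
          exact Submodule.mem_sup_left ⟨y, hy, by simp [pow_succ]⟩
    refine hR'Z ((hn p).trans ?_)
    rw [hDp, Submodule.map_zero, bot_sup_eq]
  obtain ⟨r, hr, hrZ⟩ : ∃ r ∈ R', r ∉ Z := Set.not_subset.1 hR'Z
  -- some non-trivial root element commutes with `r`
  obtain ⟨t, ht, hrt⟩ : ∃ t : F, t ≠ 0 ∧ app (u t) * r = r * app (u t) := by
    have hct : ∀ t, ∃ k : F, κ (u t) r = r + k • 1 := fun t => by
      obtain ⟨k, hk⟩ := Submodule.mem_span_singleton.1 (hstep t r hr)
      exact ⟨k, by rw [hk]; show κ (u t) r = r + (κ (u t) r - r); abel⟩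
    choose k hk using hct
    by_cases hinj : Function.Injective k
    · exfalso
      set A := LinearMap.toMatrix' r with hA
      have hdet : ∀ t, (Matrix.scalar (Fin 3) (k t) - -A).det = A.det := by
        intro t
        have h := congrArg LinearMap.toMatrix' (hk t)
        rw [hκ] at h
        rw [LinearMap.toMatrix'_mul, LinearMap.toMatrix'_mul, map_add, map_smul, LinearMap.toMatrix'_one] at h
        have h' := congrArg Matrix.det h
        rw [Matrix.det_mul, Matrix.det_mul, mul_left_comm, ← Matrix.det_mul, ← LinearMap.toMatrix'_mul, hinv',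
          LinearMap.toMatrix'_one, Matrix.det_one, mul_one] at h'
        rw [h', sub_neg_eq_add, add_comm]
        congr 2
        exact (Matrix.smul_one_eq_diagonal (k t)).symm
      set P := (-A).charpoly - Polynomial.C A.det with hP
      have hdeg : (-A).charpoly.natDegree = 3 := by rw [Matrix.charpoly_natDegree_eq_dim, Fintype.card_fin]
      have hne : P ≠ 0 := fun h => by
        rw [hP, sub_eq_zero] at h
        rw [h, Polynomial.natDegree_C] at hdeg
        exact absurd hdeg (by norm_num)
      have hroots : Finset.univ.image k ⊆ P.roots.toFinset := by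
        intro x hx
        obtain ⟨t, -, rfl⟩ := Finset.mem_image.1 hx
        rw [Multiset.mem_toFinset, Polynomial.mem_roots hne, Polynomial.IsRoot, hP, Polynomial.eval_sub,
          Polynomial.eval_C, Matrix.eval_charpoly, hdet, sub_self]
      have h1 := Finset.card_le_card hroots
      rw [Finset.card_image_of_injective _ hinj, Finset.card_univ] at h1
      have h3 := (Multiset.toFinset_card_le _).trans (Polynomial.card_roots' P)
      have h4 : P.natDegree ≤ 3 := (Polynomial.natDegree_sub_le _ _).trans (by rw [hdeg, Polynomial.natDegree_C]; rfl)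
      have := X.five
      omega
    · obtain ⟨s, t, hst, hne⟩ : ∃ s t, k s = k t ∧ s ≠ t := by
        simpa [Function.Injective] using hinj
      refine ⟨s - t, sub_ne_zero.2 hne, ?_⟩
      have h : κ (u s) r = κ (u t) r := by rw [hk, hk, hst]
      have h' : κ (u (s - t)) r = r := by
        have := congrArg (κ (u (-t))) h
        rw [← Module.End.mul_apply, ← Module.End.mul_apply, hκmul, hκmul, huadd, huadd, neg_add_cancel, huz,
          hκ1, neg_add_eq_sub] at this
        exact this
      rw [hκ] at h'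
      have := congrArg (fun a => a * app (u (s - t))) h'
      simpa only [mul_assoc, hinv, mul_one] using this
  -- the shape of `r`
  obtain ⟨c', hc'⟩ : ∃ c', c' = t • c := ⟨_, rfl⟩
  have E' : Tri q₀ e e' c' := ⟨E.hyp, hc' ▸ hu0 t, by rw [hc', polar_smul_right, E.e'c, smul_zero], by
    rw [hc', QuadraticMap.map_smul, smul_eq_mul]; exact mul_ne_zero (mul_ne_zero ht ht) E.ne⟩
  have hQ := E'.ne
  have hce' : polar q₀ c' e' = 0 := by rw [polar_comm]; exact E'.e'c
  have hce : polar q₀ c' e = 0 := by rw [polar_comm]; exact E'.ec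
  have hrR := hR'R hr
  have hru : ∀ x, app (u t) (r x) = r (app (u t) x) := fun x => LinearMap.congr_fun hrt x
  have hue : ∀ x, app (u t) x = x + polar q₀ x e • c' + (-(polar q₀ x c') - q₀ c' * polar q₀ x e) • e :=
    fun x => by rw [hc']; exact app_eich he (hu0 t) x
  obtain ⟨l, hl⟩ : ∃ l : F, r e = l • e := by
    have h := hru e
    rw [show app (u t) e = e by rw [hue, E.hyp.self₁, E'.ec]; simp, hue, add_assoc, add_eq_left] at h
    have h1 := congrArg (fun y => polar q₀ y c') h
    simp only [polar_add_left, polar_smul_left, polar_self', E'.ec, polar_zero_left, smul_eq_mul, mul_zero,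
      add_zero] at h1
    have hre : polar q₀ (r e) e = 0 := (mul_eq_zero.1 h1).resolve_right (mul_ne_zero X.two hQ)
    rw [hre, zero_smul, mul_zero, zero_add, sub_zero, neg_smul, neg_eq_zero, smul_eq_zero] at h
    have hd := Tri.decomp X E' (r e)
    rw [polar_comm (f := ⇑q₀) e (r e), hre, polar_comm (f := ⇑q₀) c' (r e), h.resolve_right he0] at hd
    exact ⟨polar q₀ e' (r e), hd.trans (by simp)⟩
  have hc1 : r c' = l • c' := by
    have h := hru c'
    rw [hue c', hue (r c'), hce, polar_self', map_add, map_add, zero_smul, map_zero, map_smul, hl] at h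
    have h1 := congrArg (fun y => polar q₀ y c') h
    simp only [polar_add_left, polar_smul_left, polar_self', E'.ec, polar_zero_left, smul_eq_mul, mul_zero, add_zero,
      zero_add, add_eq_left] at h1
    have h2 : polar q₀ (r c') e = 0 := (mul_eq_zero.1 h1).resolve_right (mul_ne_zero X.two hQ)
    have h3 := congrArg (fun y => polar q₀ y e') h
    simp only [h2, polar_add_left, polar_smul_left, E.hyp.pair, hce', polar_zero_left, smul_eq_mul, mul_zero,
      mul_one, sub_zero, add_zero, zero_add, zero_smul, add_right_inj] at h3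
    have hd := Tri.decomp X E' (r c')
    have h5 : polar q₀ e' (r c') = 0 := by
      have h6 := congrArg (fun y => polar q₀ y c') (hru e')
      simp only [hue, map_add, map_smul, hl, polar_add_left, polar_smul_left, E.hyp.pair', E'.e'c, E'.ec, hce,
        polar_self', smul_eq_mul, mul_zero, add_zero, one_mul] at h6
      have h7 := congrArg (fun y => polar q₀ y e') (hru e')
      simp only [hue, map_add, map_smul, hl, polar_add_left, polar_smul_left, E.hyp.pair', E.hyp.pair, E'.e'c, E'.ec,
        hce, hce', smul_eq_mul, mul_zero, add_zero, zero_add, one_mul, mul_one, neg_zero, zero_sub] at h7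
      rw [hadj r hrR c' c'] at h3
      have h9 : polar q₀ (r e') c' = polar q₀ (r c') e' := by rw [hadj r hrR e' c', polar_comm]
      rw [polar_comm (f := ⇑q₀)]
      have h10 : polar q₀ c' (r c') = polar q₀ (r c') c' := polar_comm _ _ _
      rw [h10] at h3
      have h8 : (2 * q₀ c') * polar q₀ (r e') e = (2 * q₀ c') * l := by linear_combination h6 - h3
      have := mul_left_cancel₀ (mul_ne_zero X.two hQ) h8
      have h11 : (2 : F) * polar q₀ (r c') e' = 0 := by linear_combination -h7 - q₀ c' * this - h9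
      exact (mul_eq_zero.1 h11).resolve_left X.two
    rw [polar_comm (f := ⇑q₀) c' (r c')] at hd
    rw [hd, polar_comm (f := ⇑q₀) e (r c'), h2, h5, show polar q₀ (r c') c' = 2 * q₀ c' * l by linear_combination -h3,
      zero_smul, zero_smul, zero_add, zero_add, inv_mul_cancel_left₀ (mul_ne_zero X.two hQ)]
  have hre' : r e' = l • e' + polar q₀ e' (r e') • e := by
    have hd := Tri.decomp X E' (r e')
    conv_lhs => rw [hd]
    rw [← hadj r hrR e e', hl, polar_smul_left, E.hyp.pair, smul_eq_mul, mul_one, ← hadj r hrR c' e', hc1,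
      polar_smul_left, hce', smul_zero, mul_zero, zero_smul, add_zero, add_comm]
  set ν := polar q₀ e' (r e')
  let P : (Fin 3 → F) → Module.End F (Fin 3 → F) := fun v => (q₀.polarBilin v).smulRight v
  have hrP : r = l • 1 + ν • P e := LinearMap.ext fun x => by
    conv_lhs => rw [Tri.decomp X E' x, map_add, map_add, map_smul, map_smul, map_smul, hl, hre', hc1]
    simp only [LinearMap.add_apply, LinearMap.smul_apply, Module.End.one_apply, P, LinearMap.smulRight_apply,
      polarBilin_apply_apply]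
    conv_rhs => rw [Tri.decomp X E' x]
    simp only [polar_add_right, polar_smul_right, E.hyp.self₁, E.hyp.pair, E'.ec, smul_eq_mul]
    module
  have hν : ν ≠ 0 := fun h0 => hrZ (by
    rw [hrP, h0, zero_smul, add_zero]; exact Submodule.smul_mem _ _ (Submodule.mem_span_singleton_self _))
  have hPe : P e ∈ R := by
    have : ν • P e ∈ R := by
      rw [show ν • P e = r - l • 1 by rw [hrP, add_sub_cancel_left]]
      exact sub_mem hrR (Submodule.smul_mem _ _ (Submodule.subset_span (Set.mem_insert _ _)))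
    exact (Submodule.smul_mem_iff _ hν).1 this
  -- a second centre
  have hg0 : polar q₀ e' c = 0 := E.e'c
  set g := eich q₀ e' c
  have hg : g ∈ commutator (O q₀) := eich_mem_commutator X.nd₀ X.two E.hyp.q₂ hg0
  have hPg : P (app g e) ∈ R := by
    have h := hκR g hg _ hPe
    convert h using 1
    refine LinearMap.ext fun x => ?_
    show polar q₀ (app g e) x • app g e = app g (polar q₀ e (app g⁻¹ x) • e)
    rw [map_smul]
    congr 1
    rw [← polar_app g e, app_app_inv]
  have h := LinearMap.congr_fun (hcomm _ hPe _ hPg) e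
  simp only [Module.End.mul_apply, P, LinearMap.smulRight_apply, polarBilin_apply_apply, map_smul,
    polar_self' (Q := q₀) e, he, mul_zero, zero_smul, smul_zero, smul_smul, polar_zero_right] at h
  replace h := smul_eq_zero.1 h
  have hge : polar q₀ (app g e) e = -(q₀ c) := by
    rw [app_eich E.hyp.q₂ hg0, polar_add_left, polar_add_left, polar_smul_left, polar_smul_left, polar_self', he,
      E.hyp.pair, E.hyp.pair', polar_comm (f := ⇑q₀) c e, E.ec]
    simp
  rcases h with h | h
  · rw [polar_comm (f := ⇑q₀) e, hge] at h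
    exact E.ne (neg_eq_zero.1 (mul_self_eq_zero.1 h))
  · exact he0 h

/-- An element commuting with a pure root element preserves the decomposition. -/
theorem centraliser_root (hO : X.Over M) {w w' b : Fin 3 → F} (E : Tri q₀ w w' b) {g : O q} (hgM : g ∈ M)
    (hgR : g * X.emb (1, eich q₀ w b) = X.emb (1, eich q₀ w b) * g) : g ∈ X.T := by
  have hwb := E.ec
  have hbw : polar q₀ b w = 0 := by rw [polar_comm]; exact hwb
  have hQ := mul_ne_zero X.two E.ne
  set R := X.emb (1, eich q₀ w b) with hR
  have hsl : ∀ z, X.C w z = 0 → X.C b z = 0 → z = X.τ (X.C w' z) w := by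
    intro z h1 h2
    refine sub_eq_zero.1 (X.eq_zero fun φ => ?_)
    rw [map_sub, X.C_τ, Tri.decomp X E φ]
    simp only [X.C_add, X.C_smul, h1, h2, polar_add_right, polar_smul_right, E.hyp.self₁, E.hyp.pair, hwb,
      smul_eq_mul]
    module
  have hRw : ∀ x, app R (X.τ x w) = X.τ x w := fun x => by
    rw [X.app_R E.hyp.q₁ hwb, X.C_τ, X.C_τ, E.hyp.self₁, hwb]; simp
  have hcomm : ∀ z, app g (app R z) = app R (app g z) := fun z => by rw [← app_mul, hgR, app_mul]
  have hC1 : ∀ z y, app R z - z = y → (2 * q₀ b) • X.C w z = X.C b y ∧ X.C w' y = -(X.C b z) - q₀ b • X.C w z := by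
    intro z y h
    rw [X.app_R E.hyp.q₁ hwb, add_assoc, add_sub_cancel_left] at h
    subst h
    refine ⟨?_, ?_⟩
    · rw [map_add, X.C_τ, X.C_τ, polar_self', hwb, zero_smul, add_zero, mul_smul]
    · rw [map_add, X.C_τ, X.C_τ, polar_comm (f := ⇑q₀) b w', E.e'c, E.hyp.pair, zero_smul, zero_add, one_smul]
  -- the action on the slice
  have hgw : ∀ x, app g (X.τ x w) = X.τ (X.C w' (app g (X.τ x w))) w := by
    intro x
    obtain ⟨h1, h3⟩ := hC1 (app g (X.τ x w)) 0 (by rw [← hcomm, hRw, sub_self])
    rw [map_zero, smul_eq_zero] at h1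
    have h1' := h1.resolve_left hQ
    rw [map_zero, h1', smul_zero, sub_zero, eq_comm, neg_eq_zero] at h3
    exact hsl _ h1' h3
  let φ : (Fin 3 → F) →ₗ[F] (Fin 3 → F) := (X.C w').comp ((app g).comp ((LinearMap.flip X.τ) w))
  have hφ : ∀ x, app g (X.τ x w) = X.τ (φ x) w := hgw
  have hgb : ∀ x, X.C w (app g (X.τ x b)) = 0 ∧ X.C b (app g (X.τ x b)) = (2 * q₀ b) • φ x := by
    intro x
    obtain ⟨h1, h3⟩ := hC1 (app g (X.τ x b)) (-(2 * q₀ b) • X.τ (φ x) w) (by
      rw [← hcomm, ← map_sub, X.app_R E.hyp.q₁ hwb, X.C_τ, X.C_τ, hbw, polar_self', ← hφ, ← map_smul]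
      congr 1
      simp)
    rw [map_smul, X.C_τ, hwb, zero_smul, smul_zero, smul_eq_zero] at h1
    have h1' := h1.resolve_left hQ
    refine ⟨h1', ?_⟩
    rw [map_smul, X.C_τ, E.hyp.pair, one_smul, h1', smul_zero, sub_zero, neg_smul] at h3
    exact (neg_injective h3).symm
  have hgw' : ∀ x, X.C w (app g (X.τ x w')) = φ x := by
    intro x
    obtain ⟨h1, -⟩ := hC1 (app g (X.τ x w')) (app g (X.τ x b) - q₀ b • X.τ (φ x) w) (by
      rw [← hcomm, ← map_sub, X.app_R E.hyp.q₁ hwb, X.C_τ, X.C_τ, E.hyp.pair', E.e'c, ← hφ, ← map_smul, ← map_sub]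
      congr 1
      simp
      abel)
    rw [map_sub, map_smul, X.C_τ, hwb, zero_smul, smul_zero, sub_zero, (hgb x).2] at h1
    exact smul_right_injective _ hQ h1
  have hiso : ∀ x y, polar q₀ (φ x) (φ y) = polar q₀ x y := fun x y => by
    have h := polar_app g (X.τ x w') (X.τ y w)
    rw [hφ, ← X.polar_C, hgw', X.polar_τ, E.hyp.pair', mul_one] at h
    exact h
  have hφi : Function.Injective φ := fun x y h => by
    refine sub_eq_zero.1 (eq_zero_of_polar X.nd₀ fun z => ?_)
    rw [← hiso, map_sub, h, sub_self, polar_zero_left]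
  have hφq : ∀ x, q₀ (φ x) = q₀ x := fun x => by
    have := hiso x x
    rw [polar_self', polar_self'] at this
    exact mul_left_cancel₀ X.two this
  set a : O q₀ := CfsgLib.OrthOmega.ofEquiv (LinearEquiv.ofInjectiveEndo φ hφi) fun x => hφq x with ha
  have haφ : ∀ x, app a x = φ x := fun x =>
    CfsgLib.OrthOmega.app_ofEquiv (Q := q₀) (LinearEquiv.ofInjectiveEndo φ hφi) (fun x => hφq x) x
  set y := X.emb (a⁻¹, 1) * g with hy
  have hyw : ∀ x, app y (X.τ x w) = X.τ x w := fun x => by
    rw [hy, app_mul, hφ, X.app_emb, app_one, ← haφ, app_inv_app]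
  have hCy : ∀ ψ z, X.C ψ (app y z) = app a⁻¹ (X.C ψ (app g z)) := fun ψ z => by
    rw [hy, app_mul, X.C_emb]; simp
  have hyb : ∀ x, X.C w (app y (X.τ x b) - X.τ x b) = 0 ∧ X.C b (app y (X.τ x b) - X.τ x b) = 0 := fun x => by
    obtain ⟨h1, h3⟩ := hgb x
    refine ⟨?_, ?_⟩
    · rw [map_sub, hCy, h1, map_zero, X.C_τ, hbw, zero_smul, sub_zero]
    · rw [map_sub, hCy, h3, map_smul, ← haφ, app_inv_app, X.C_τ, polar_self', sub_self]
  have hyQ : X.InQ w y := by
    refine ⟨hyw, fun z hz => ?_⟩
    set x₀ := (2 * q₀ b)⁻¹ • X.C b z with hx₀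
    have h := hsl (z - X.τ x₀ b) (by rw [map_sub, hz, X.C_τ, hbw, zero_smul, sub_zero]) (by
      rw [map_sub, X.C_τ, polar_self', hx₀, smul_inv_smul₀ hQ, sub_self])
    obtain ⟨h1, h3⟩ := hyb x₀
    refine ⟨X.C w' (app y (X.τ x₀ b) - X.τ x₀ b), ?_⟩
    rw [← hsl _ h1 h3, sub_eq_sub_iff_sub_eq_sub, ← map_sub, h, hyw]
  have hyΩ : y ∈ commutator (O q) := by
    obtain ⟨p, hp⟩ : ∃ p, CharP F p := CharP.exists F
    haveI : Fact p.Prime := ⟨CharP.char_is_prime F p⟩
    have hp2 : p ≠ 2 := fun h => X.two (by subst h; exact_mod_cast CharP.cast_eq_zero F 2)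
    have h3 : 3 ≤ p := by
      have := (Fact.out : p.Prime).two_le
      omega
    have hN : (app y - 1) ^ 3 = 0 := LinearMap.ext fun z => by
      have e : ∀ v, (app y - 1 : Module.End F (ι → F)) v = app y v - v := fun v => rfl
      rw [pow_succ, pow_succ, pow_one, Module.End.mul_apply, Module.End.mul_apply, e, e, e, LinearMap.zero_apply]
      obtain ⟨r, hr⟩ := hyQ.2 (app y z - z) (by rw [map_sub, X.C_app_fix hyw, sub_self])
      rw [hr, hyw, sub_self]
    have happ : ∀ g h : O q, app (g * h) = app g * app h := fun g h => LinearMap.ext fun z => app_mul g h z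
    haveI : CharP (Module.End F (ι → F)) p := by
      haveI : Nonempty ι := Fintype.card_pos_iff.1 (by rw [X.nine]; norm_num)
      exact charP_of_injective_algebraMap (algebraMap F _).injective p
    have hpow : ∀ n : ℕ, app (y ^ n) = app y ^ n := by
      intro n
      induction n with
      | zero => exact LinearMap.ext fun z => app_one z
      | succ n ih => rw [pow_succ, pow_succ, happ, ih]
    have hyp : y ^ p = 1 := ext_app fun z => by
      rw [hpow, app_one]
      have h := sub_pow_char_of_commute p (Commute.one_right (app y))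
      rw [one_pow] at h
      obtain ⟨m, hm⟩ := Nat.exists_eq_add_of_le h3
      rw [hm, pow_add, hN, zero_mul, eq_comm, sub_eq_zero, ← hm] at h
      rw [h]; rfl
    rw [commutator_eq X.nd X.two X.d_spec, MonoidHom.mem_ker]
    have h := congrArg (chiPair q X.d) hyp
    rw [map_pow, map_one] at h
    obtain ⟨m, hm⟩ := (Fact.out : p.Prime).odd_of_ne_two hp2
    rw [hm, pow_succ, pow_mul, show chiPair q X.d y ^ 2 = 1 from Prod.ext (Int.units_sq _) (Int.units_sq _),
      one_pow, one_mul] at h
    exact h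
  have haM : X.emb (a⁻¹, 1) ∈ M := by
    refine hO.le ⟨X.emb_mem_T _, ?_⟩
    rw [show X.emb (a⁻¹, 1) = y * g⁻¹ by rw [hy, mul_inv_cancel_right]]
    exact (commutator (O q)).mul_mem hyΩ ((commutator (O q)).inv_mem (hO.omega hgM))
  have hyM : y ∈ M := M.mul_mem haM hgM
  have hRM : ∀ t : F, X.emb (1, eich q₀ w (t • b)) ∈ M := fun t => hO.le (X.emb_H (by
    rw [map_one, X.χ_eq_one.2 (eich_mem_commutator X.nd₀ X.two E.hyp.q₁ (by rw [polar_smul_right, hwb, smul_zero]))]))
  have hRQ : X.InQ w R := by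
    refine ⟨hRw, fun z hz => ⟨-(X.C b z), ?_⟩⟩
    rw [X.app_R E.hyp.q₁ hwb, hz]
    simp
  let S : (Fin 3 → F) →ₗ[F] (Fin 3 → F) := (X.C b).comp (X.mov y w')
  have hRM1 : R ∈ M := by have := hRM 1; rwa [one_smul] at this
  have e0 : ∀ {y : O q}, X.InQ w y → ∀ x r, polar q (X.τ r w) (X.mov y w' x) = 0 := fun hy x r => by
    rw [polar_comm, ← X.polar_C, X.C_mov hy.1, polar_zero_left]
  have hadj : ∀ x z, polar q₀ (S x) z = polar q₀ x (S z) := by
    intro x z
    have hY' : ∀ x, X.mov R w' x = X.τ x b + X.τ (-(q₀ b • x)) w := by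
      intro x
      rw [mov_apply, X.app_R E.hyp.q₁ hwb, X.C_τ, E.hyp.pair', X.C_τ, E.e'c]
      simp
      abel
    have h := X.symm_of_comm (w' := w') hyQ hRQ (InQ.comm X hO E.hyp hyM hRM1 hyQ hRQ) x z
    rw [hY', hY', polar_add_left, polar_add_right, e0 hyQ, polar_comm (f := ⇑q) (X.mov y w' x) (X.τ (-(q₀ b • z)) w),
      e0 hyQ, add_zero, add_zero, polar_comm (f := ⇑q) (X.τ x b), ← X.polar_C, ← X.polar_C] at h
    rw [polar_comm (f := ⇑q₀) x]
    exact h.symm
  have hconj : ∀ u ∈ commutator (O q₀), ∀ x, S (app u (S (app u⁻¹ x))) = app u (S (app u⁻¹ (S x))) := by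
    intro u hu
    set A := X.emb (u, 1) with hA
    have hAM : A ∈ M := hO.le (X.emb_H (by rw [map_one, X.χ_eq_one.2 hu]))
    have hAi : A⁻¹ = X.emb (u⁻¹, 1) := by rw [hA, ← map_inv, Prod.inv_mk, inv_one]
    set y' := A * y * A⁻¹ with hy'
    have hy'Q : X.InQ w y' := by
      refine ⟨fun x => by rw [hy', hAi, app_mul, app_mul, X.app_emb, app_one, hyw, hA, X.app_emb, app_one,
        app_app_inv], fun z hz => ?_⟩
      obtain ⟨r, hr⟩ := hyQ.2 (app A⁻¹ z) (by rw [hAi, X.C_emb]; simp [hz])
      refine ⟨app u r, ?_⟩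
      have h' := congrArg (app A) hr
      rw [map_sub, app_app_inv, hA, X.app_emb, app_one, ← hA] at h'
      rw [hy', app_mul, app_mul]
      exact h'
    have hy'S : ∀ x, X.C b (X.mov y' w' x) = app u (S (app u⁻¹ x)) := fun x => by
      have e : X.mov y' w' x = app A (X.mov y w' (app u⁻¹ x)) := by
        rw [mov_apply, mov_apply, hy', hAi, app_mul, app_mul, X.app_emb, app_one, map_sub, hA, X.app_emb, app_one,
          app_app_inv]
      rw [e, hA, X.C_emb]
      simp [S]
    have hslice : ∀ {y : O q}, X.InQ w y → ∀ x, X.mov y w' x - X.τ ((2 * q₀ b)⁻¹ • X.C b (X.mov y w' x)) b =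
        X.τ (X.C w' (X.mov y w' x - X.τ ((2 * q₀ b)⁻¹ • X.C b (X.mov y w' x)) b)) w := fun hy x => by
      refine hsl _ ?_ ?_
      · rw [map_sub, X.C_mov hy.1, X.C_τ, hbw, zero_smul, sub_zero]
      · rw [map_sub, X.C_τ, polar_self', smul_inv_smul₀ hQ, sub_self]
    have hpol : ∀ {y y' : O q}, X.InQ w y → X.InQ w y' → ∀ x z, polar q (X.mov y w' x) (X.mov y' w' z) =
        (2 * q₀ b)⁻¹ * polar q₀ (X.C b (X.mov y w' x)) (X.C b (X.mov y' w' z)) := fun {y y'} hy hy' x z => by
      have h1 := hslice hy x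
      rw [sub_eq_iff_eq_add] at h1
      conv_lhs => rw [h1, polar_add_left, e0 hy', zero_add, polar_comm, ← X.polar_C, polar_smul_right, smul_eq_mul,
        polar_comm]
    intro x
    refine sub_eq_zero.1 (eq_zero_of_polar X.nd₀ fun z => ?_)
    have h := X.symm_of_comm (w' := w') hyQ hy'Q
      (InQ.comm X hO E.hyp hyM (M.mul_mem (M.mul_mem hAM hyM) (M.inv_mem hAM)) hyQ hy'Q) x z
    rw [hpol hy'Q hyQ, hpol hyQ hy'Q, hy'S, hy'S] at h
    have h' := mul_left_cancel₀ (inv_ne_zero hQ) h
    change polar q₀ (app u (S (app u⁻¹ x))) (S z) = polar q₀ (S x) (app u (S (app u⁻¹ z))) at h'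
    rw [← hadj] at h'
    rw [polar_sub_left, h', sub_eq_zero]
    conv_lhs => rw [← app_app_inv u (S x), polar_app, ← hadj, ← polar_app u, app_app_inv]
  obtain ⟨l, hl⟩ := X.scalar_of_conj S hadj hconj
  set k := -(l * (2 * q₀ b)⁻¹) with hk
  have hkb : polar q₀ w (k • b) = 0 := by rw [polar_smul_right, hwb, smul_zero]
  set y₁ := X.emb (1, eich q₀ w (k • b)) * y with hy₁
  have h1 : y₁ = 1 := by
    refine Over.inZ_eq_one X hO E.hyp (M.mul_mem (hRM k) hyM) ⟨fun x => ?_, fun z => ?_⟩
    · rw [hy₁, app_mul, hyw, X.app_R E.hyp.q₁ hkb, X.C_τ, X.C_τ, E.hyp.self₁, hkb]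
      simp
    obtain ⟨r, hr⟩ := hyQ.2 (z - X.τ (X.C w z) w') (by rw [map_sub, X.C_τ, E.hyp.pair', one_smul, sub_self])
    set mz := X.mov y w' (X.C w z) with hmz
    have h2 := hsl (mz + X.τ (X.C w z) (k • b)) (by
      rw [map_add, X.C_mov hyw, X.C_τ, polar_smul_left, hbw, smul_zero, zero_smul, add_zero]) (by
      rw [map_add, show X.C b mz = l • X.C w z from hl _, X.C_τ, polar_smul_left, polar_self', smul_eq_mul, hk,
        ← add_smul, neg_mul, mul_assoc, inv_mul_cancel₀ hQ, mul_one, add_neg_cancel, zero_smul])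
    have hz : app y z = z + (X.τ r w + mz) := by
      rw [← hr, hmz, mov_apply, map_sub]; abel
    refine ⟨r + X.C w' (mz + X.τ (X.C w z) (k • b))
      + (-(X.C (k • b) (app y z)) - q₀ (k • b) • X.C w (app y z)), ?_⟩
    rw [hy₁, app_mul, X.app_R E.hyp.q₁ hkb, X.C_app_fix hyw]
    rw [map_add X.τ, map_add X.τ, LinearMap.add_apply, LinearMap.add_apply, ← h2, hz]
    abel
  rw [show g = (X.emb (a⁻¹, 1))⁻¹ * ((X.emb (1, eich q₀ w (k • b)))⁻¹ * y₁) by
    rw [hy₁, inv_mul_cancel_left, hy, inv_mul_cancel_left], h1, mul_one]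
  exact X.T.mul_mem (X.T.inv_mem (X.emb_mem_T _)) (X.T.inv_mem (X.emb_mem_T _))

end Setting

end CfsgLib.TensorThree63
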