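import Cfsg.Agent.Lib.TensorThree63.Basic

/-!
Involutions of the three-dimensional factor and of the tensor stabiliser: axes, traces, conjugacy.
-/

set_option autoImplicit false
set_option linter.unusedSectionVars false
set_option linter.unusedSimpArgs false

namespace CfsgLib.TensorThree63

open Matrix QuadraticMap CfsgLib.Orth
open CfsgLib.GeomClasses (OrthTools.orth OrthTools.mem_orth)
open CfsgLib.TensorMax63 (negO app_negO detHom_negO cls chiPair_cls IsFrame surj_of_plane Nondeg nondeg_top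
  nondeg_inf finrank_inf_ge exists_partner' exists_aniso mem_orth_one eq_one_of_fix chi_negO exists_fixed)

variable {ι : Type} [Fintype ι] [DecidableEq ι] {F : Type*} [Field F] [Fintype F] [DecidableEq F]
  {q : QuadraticForm F (ι → F)} {q₀ : QuadraticForm F (Fin 3 → F)}

/-- A non-trivial involution of determinant one. -/
structure Flip (a : O q₀) : Prop where
  det : detHom q₀ a = 1
  sq : a * a = 1
  ne : a ≠ 1

/-- The flip with a given axis. -/
noncomputable def flp (p : Fin 3 → F) : O q₀ := negO q₀ * refl q₀ p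

theorem app_flp (p x : Fin 3 → F) :
    app (flp (q₀ := q₀) p) x = -x + ((q₀ p)⁻¹ * polar q₀ x p) • p := by
  rw [flp, app_mul, app_negO, app_refl, neg_sub, sub_eq_add_neg, add_comm]

theorem flp_perp {p x : Fin 3 → F} (h : polar q₀ x p = 0) : app (flp (q₀ := q₀) p) x = -x := by
  rw [app_flp, h, mul_zero, zero_smul, add_zero]

theorem flp_self {p : Fin 3 → F} (hp : q₀ p ≠ 0) : app (flp (q₀ := q₀) p) p = p := by
  rw [app_flp, polar_self', mul_left_comm, inv_mul_cancel₀ hp, mul_one, two_smul, neg_add_cancel_left]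

theorem flp_conj (g : O q₀) (p : Fin 3 → F) : g * flp p * g⁻¹ = flp (app g p) := by
  have h : g * negO q₀ = negO q₀ * g := ext_app fun x => by simp [app_negO]
  rw [flp, flp, ← refl_conj, ← mul_assoc, h]
  group

theorem flp_smul {t : F} (ht : t ≠ 0) (p : Fin 3 → F) : flp (q₀ := q₀) (t • p) = flp p := by
  rw [flp, flp, refl_smul ht]

theorem flip_flp (h2 : (2 : F) ≠ 0) (hq : q₀.polarBilin.Nondegenerate) {p : Fin 3 → F} (hp : q₀ p ≠ 0) :
    Flip (flp (q₀ := q₀) p) := by
  refine ⟨?_, ?_, fun h => ?_⟩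
  · rw [flp, map_mul, detHom_negO q₀ (by decide), detHom_refl hp, neg_one_mul, neg_neg]
  · refine ext_app fun x => ?_
    rw [flp, app_mul, app_mul, app_mul, app_negO, app_negO, map_neg, neg_neg, ← app_mul, refl_mul_self]
  · obtain ⟨x, hx, hqx⟩ := exists_aniso (nondeg_inf h2 (nondeg_top hq) trivial hp) fun hb => by
      have := finrank_inf_ge hq (⊤ : Submodule F (Fin 3 → F)) p
      rw [hb, finrank_bot, finrank_top, Module.finrank_fin_fun] at this
      omega
    have := congrArg (fun g => app g x) h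
    simp only [app_one] at this
    rw [flp_perp (by rw [polar_comm]; exact mem_orth_one.1 hx.2)] at this
    refine hqx ?_
    rw [(smul_eq_zero.1 (show (2 : F) • x = 0 by rw [two_smul]; nth_rewrite 1 [← this]; exact neg_add_cancel x)).resolve_left
      h2, QuadraticMap.map_zero]

variable (X : Setting q q₀)

namespace Setting

include X in
theorem exists_frame {p : Fin 3 → F} (hp : q₀ p ≠ 0) : ∃ a b, IsFrame q₀ ![p, a, b] := by
  have hP := nondeg_inf X.two (nondeg_top X.nd₀) trivial hp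
  have i1 := finrank_inf_ge X.nd₀ (⊤ : Submodule F (Fin 3 → F)) p
  rw [finrank_top, Module.finrank_fin_fun] at i1
  obtain ⟨a, ha, hqa⟩ := exists_aniso hP fun hb => by rw [hb, finrank_bot] at i1; omega
  obtain ⟨b, hb, hqb⟩ := exists_aniso (nondeg_inf X.two hP ha hqa) fun h => by
    have := finrank_inf_ge X.nd₀ ((⊤ : Submodule F (Fin 3 → F)) ⊓ OrthTools.orth q₀ (Submodule.span F {p})) a
    rw [h, finrank_bot] at this
    omega
  have h1 := mem_orth_one.1 ha.2
  have h3 := mem_orth_one.1 hb.1.2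
  have h5 := mem_orth_one.1 hb.2
  refine ⟨a, b, fun i => by fin_cases i <;> assumption, fun i j hij => ?_⟩
  fin_cases i <;> fin_cases j <;> first
    | exact absurd rfl hij
    | exact h1
    | exact h3
    | exact h5
    | (rw [polar_comm]; first | exact h1 | exact h3 | exact h5)

include X in
/-- An involution of determinant one has an anisotropic axis. -/
theorem exists_axis {a : O q₀} (ha : Flip a) : ∃ p, q₀ p ≠ 0 ∧ a = flp p := by
  obtain ⟨v, hv0, hv⟩ := exists_fixed X.nd₀ X.two (by decide) ha.det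
  have hinv : ∀ x, app a (app a x) = x := fun x => by rw [← app_mul, ha.sq, app_one]
  obtain ⟨p, hp, hfix⟩ : ∃ p, q₀ p ≠ 0 ∧ app a p = p := by
    by_cases hqv : q₀ v = 0
    · obtain ⟨r, -, hqr, hvr⟩ := exists_partner' (nondeg_top X.nd₀) (u := v) trivial hv0 hqv
      set s := r + app a r with hs
      have hs' : app a s = s := by rw [hs, map_add, hinv, add_comm]
      have hvs : polar q₀ v s = 2 := by
        rw [hs, polar_add_right, hvr]
        nth_rewrite 1 [← hv]
        rw [polar_app, hvr]; norm_num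
      by_cases hqs : q₀ s = 0
      · refine ⟨v + s, ?_, by rw [map_add, hv, hs']⟩
        rw [QuadraticMap.map_add ⇑q₀, hqv, hqs, hvs]; simpa using X.two
      · exact ⟨s, hqs, hs'⟩
    · exact ⟨v, hqv, hv⟩
  refine ⟨p, hp, ext_app fun x => ?_⟩
  have hperp : ∀ y, polar q₀ y p = 0 → app a y = -y := by
    intro y hy
    by_contra hne
    refine ha.ne (eq_one_of_fix X.nd₀ X.two ha.det ?_)
    set s := y + app a y with hs
    have hs' : app a s = s := by rw [hs, map_add, hinv, add_comm]
    have hs0 : s ≠ 0 := fun h => hne (eq_neg_of_add_eq_zero_right h)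
    have hsp : polar q₀ s p = 0 := by
      rw [hs, polar_add_left, hy]
      nth_rewrite 1 [← hfix]
      rw [polar_app, hy, add_zero]
    have hli : LinearIndependent F ![p, s] := by
      rw [LinearIndependent.pair_iff' (fun h => hp (by rw [h, QuadraticMap.map_zero]))]
      intro t ht
      rw [← ht, polar_smul_left, polar_self', smul_eq_mul] at hsp
      exact hs0 (by rw [← ht, (mul_eq_zero.1 hsp).resolve_right (mul_ne_zero X.two hp), zero_smul])
    have h1 : Submodule.span F (Set.range ![p, s]) ≤ fixS a := by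
      rw [Submodule.span_le]
      rintro _ ⟨i, rfl⟩
      fin_cases i
      · exact mem_fixS.2 hfix
      · exact mem_fixS.2 hs'
    have := Submodule.finrank_mono h1
    rw [finrank_span_eq_card hli, Fintype.card_fin] at this
    rw [Fintype.card_fin]
    omega
  have h := hperp (x - ((2 * q₀ p)⁻¹ * polar q₀ x p) • p) (by
    rw [polar_sub_left, polar_smul_left, polar_self', smul_eq_mul]
    have := X.two
    field_simp
    ring)
  rw [map_sub, map_smul, hfix, sub_eq_iff_eq_add] at h
  rw [h, app_flp, neg_sub]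
  have : (q₀ p)⁻¹ * polar q₀ x p = (2 * q₀ p)⁻¹ * polar q₀ x p + (2 * q₀ p)⁻¹ * polar q₀ x p := by
    have := X.two
    field_simp
    ring
  rw [this, add_smul]
  abel

include X in
theorem fix_line {p x : Fin 3 → F} (hp : q₀ p ≠ 0) (hx : app (flp (q₀ := q₀) p) x = x) : ∃ t : F, x = t • p := by
  refine ⟨(2 : F)⁻¹ * ((q₀ p)⁻¹ * polar q₀ x p), ?_⟩
  rw [app_flp] at hx
  have h : (2 : F) • x = ((q₀ p)⁻¹ * polar q₀ x p) • p := by
    rw [two_smul]; nth_rewrite 1 [← hx]; abel
  rw [mul_smul, ← h, inv_smul_smul₀ X.two]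

include X in
theorem tr_flip {a : O q₀} (ha : Flip a) : tr a = -1 := by
  obtain ⟨p, hp, rfl⟩ := X.exists_axis ha
  obtain ⟨b, c, hf⟩ := X.exists_frame hp
  have hb : polar q₀ b p = 0 := hf.ortho 1 0 (by decide)
  have hc : polar q₀ c p = 0 := hf.ortho 2 0 (by decide)
  rw [X.tr₀_frame hf, Fin.sum_univ_three]
  simp only [Matrix.cons_val_zero, Matrix.cons_val_one, Matrix.cons_val_two, Matrix.head_cons, Matrix.tail_cons]
  rw [flp_self hp, flp_perp hb, flp_perp hc, polar_neg_left, polar_neg_left, polar_self', polar_self', polar_self']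
  have h1 : q₀ b ≠ 0 := hf.ne 1
  have h3 : q₀ c ≠ 0 := hf.ne 2
  have := X.two
  field_simp
  norm_num

include X in
theorem tr_one : tr (1 : O q₀) = 3 := by
  rw [tr, show app (1 : O q₀) = LinearMap.id from LinearMap.ext fun x => app_one x, LinearMap.trace_id,
    Module.finrank_fin_fun]
  norm_num

theorem Flip.inv {a : O q₀} (ha : Flip a) : a⁻¹ = a := inv_eq_of_mul_eq_one_right ha.sq

theorem _root_.CfsgLib.TensorThree63.Flip.mul {a c : O q₀} (ha : Flip a) (hc : Flip c) (hac : a * c = c * a)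
    (hne : a ≠ c) : Flip (a * c) := by
  refine ⟨by rw [map_mul, ha.det, hc.det, mul_one], ?_, fun h => hne ?_⟩
  · rw [mul_assoc a c, ← mul_assoc c a, ← hac, mul_assoc a c c, hc.sq, mul_one, ha.sq]
  · rw [mul_eq_one_iff_eq_inv, inv_eq_of_mul_eq_one_right hc.sq] at h
    exact h

include X in
theorem commute_axis {a c : O q₀} (hc : Flip c) {p : Fin 3 → F} (hp : q₀ p ≠ 0) (ha : a = flp p)
    (hac : a * c = c * a) (hne : a ≠ c) : app c p = -p := by
  obtain ⟨t, ht⟩ := X.fix_line hp (x := app c p) (by rw [← ha, ← app_mul, hac, app_mul, ha, flp_self hp])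
  have h1 : app c (app c p) = p := by rw [← app_mul, hc.sq, app_one]
  rw [ht, map_smul, ht, smul_smul] at h1
  have htt : t * t = 1 := by
    have h0 : (t * t - 1) • p = 0 := by rw [sub_smul, h1, one_smul, sub_self]
    exact sub_eq_zero.1 ((smul_eq_zero.1 h0).resolve_right fun h => hp (by rw [h, QuadraticMap.map_zero]))
  rcases mul_self_eq_one_iff.1 htt with rfl | rfl
  · exfalso
    obtain ⟨p', hp', rfl⟩ := X.exists_axis hc
    rw [one_smul] at ht
    obtain ⟨s, hs⟩ := X.fix_line hp' ht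
    exact hne (by rw [ha, hs, flp_smul (fun h => hp (by rw [hs, h, zero_smul, QuadraticMap.map_zero]))])
  · rw [ht, neg_one_smul]

include X in
/-- Three commuting flips form a four group. -/
theorem flip_cases {a₁ a₂ c : O q₀} (h₁ : Flip a₁) (h₂ : Flip a₂) (h₁₂ : a₁ * a₂ = a₂ * a₁) (hne : a₁ ≠ a₂)
    (hc : Flip c) (hc₁ : a₁ * c = c * a₁) (hc₂ : a₂ * c = c * a₂) : c = a₁ ∨ c = a₂ ∨ c = a₁ * a₂ := by
  by_cases e1 : c = a₁
  · exact Or.inl e1
  by_cases e2 : c = a₂
  · exact Or.inr (Or.inl e2)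
  refine Or.inr (Or.inr ?_)
  obtain ⟨p₁, hp₁, rfl⟩ := X.exists_axis h₁
  obtain ⟨p₂, hp₂, rfl⟩ := X.exists_axis h₂
  have c1 := X.commute_axis hc hp₁ rfl hc₁ (Ne.symm e1)
  have c2 := X.commute_axis hc hp₂ rfl hc₂ (Ne.symm e2)
  have b1 := X.commute_axis h₂ hp₁ rfl h₁₂ hne
  have b2 := X.commute_axis h₁ hp₂ rfl h₁₂.symm (Ne.symm hne)
  have hu : c * (flp p₁ * flp p₂) = 1 := by
    refine eq_one_of_fix X.nd₀ X.two (by rw [map_mul, map_mul, hc.det, h₁.det, h₂.det, mul_one, mul_one]) ?_
    have f1 : app (c * (flp p₁ * flp p₂)) p₁ = p₁ := by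
      rw [app_mul, app_mul, b1, map_neg, flp_self hp₁, map_neg, c1, neg_neg]
    have f2 : app (c * (flp p₁ * flp p₂)) p₂ = p₂ := by
      rw [app_mul, app_mul, flp_self hp₂, b2, map_neg, c2, neg_neg]
    have h1 : Submodule.span F (Set.range ![p₁, p₂]) ≤ fixS (c * (flp p₁ * flp p₂)) := by
      rw [Submodule.span_le]
      rintro _ ⟨i, rfl⟩
      fin_cases i
      · exact mem_fixS.2 f1
      · exact mem_fixS.2 f2
    have hli : LinearIndependent F ![p₁, p₂] := by
      rw [LinearIndependent.pair_iff' (fun h => hp₁ (by rw [h, QuadraticMap.map_zero]))]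
      intro t ht
      rcases eq_or_ne t 0 with rfl | ht0
      · exact hp₂ (by rw [← ht, zero_smul, QuadraticMap.map_zero])
      · exact hne (by rw [← ht, flp_smul ht0])
    have := Submodule.finrank_mono h1
    rw [finrank_span_eq_card hli, Fintype.card_fin] at this
    rw [Fintype.card_fin]
    omega
  rw [mul_eq_one_iff_eq_inv] at hu
  rw [hu, inv_eq_of_mul_eq_one_right (h₁.mul h₂ h₁₂ hne).sq]

/-! ### Square class -/

theorem exists_good : ∃ a : O q₀, Flip a ∧ X.χ a = 1 ∧ ∀ a : O q₀, Flip a → X.χ a = 1 →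
    ∃ a', Flip a' ∧ X.χ a' = 1 ∧ a * a' = a' * a ∧ a ≠ a' := by
  obtain ⟨c, hc, hn⟩ := chi_negO X.nd₀ X.two (by decide) X.d_spec
  have hflp : ∀ p, q₀ p = c → Flip (flp (q₀ := q₀) p) ∧ X.χ (flp p) = 1 := fun p hp => by
    refine ⟨flip_flp X.two X.nd₀ (hp ▸ hc), ?_⟩
    rw [flp, map_mul, X.χ_apply, X.χ_apply, hn, chiPair_cls X.two X.d_spec (hp ▸ hc), hp]
    exact Prod.ext (Int.units_mul_self _) (Int.units_mul_self _)
  obtain ⟨p, -, hp⟩ := CfsgLib.OrthOmega.exists_value_sub X.two ⊤ (nondeg_top X.nd₀).sep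
    (by rw [finrank_top, Module.finrank_fin_fun]; norm_num) hc
  refine ⟨_, (hflp p hp).1, (hflp p hp).2, fun a ha _ => ?_⟩
  obtain ⟨r, hr, rfl⟩ := X.exists_axis ha
  have hP := nondeg_inf X.two (nondeg_top X.nd₀) trivial hr
  have i1 := finrank_inf_ge X.nd₀ (⊤ : Submodule F (Fin 3 → F)) r
  rw [finrank_top, Module.finrank_fin_fun] at i1
  obtain ⟨s, hs, hqs⟩ := CfsgLib.OrthOmega.exists_value_sub X.two _ hP.sep (by omega) hc
  have hrs := mem_orth_one.1 hs.2
  refine ⟨flp s, (hflp s hqs).1, (hflp s hqs).2, ?_, fun h => ?_⟩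
  · have h := flp_conj (flp (q₀ := q₀) r) s
    rw [flp_perp (p := r) (x := s) (by rw [polar_comm]; exact hrs), ← neg_one_smul F s, flp_smul (by simp),
      mul_inv_eq_iff_eq_mul] at h
    exact h
  · have e := flp_self (q₀ := q₀) hr
    rw [h, flp_perp hrs] at e
    refine hr ?_
    rw [(smul_eq_zero.1 (show (2 : F) • r = 0 by rw [two_smul]; nth_rewrite 1 [← e]; exact neg_add_cancel r)).resolve_left
      X.two, QuadraticMap.map_zero]

/-- Flips of one class are conjugate, with a conjugator of any class. -/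
theorem conj_flip {a a' : O q₀} (ha : Flip a) (ha' : Flip a') (h : X.χ a = X.χ a') :
    ∀ y : ℤˣ × ℤˣ, ∃ g, g * a * g⁻¹ = a' ∧ X.χ g = y := by
  obtain ⟨p, hp, rfl⟩ := X.exists_axis ha
  obtain ⟨p', hp', rfl⟩ := X.exists_axis ha'
  obtain ⟨g, hg⟩ : ∃ g : O q₀, g * flp p * g⁻¹ = flp p' := by
    have hcls : cls (q₀ p) = cls (q₀ p') := by
      rw [flp, flp, map_mul, map_mul] at h
      have := mul_left_cancel h
      rwa [X.χ_apply, X.χ_apply, chiPair_cls X.two X.d_spec hp, chiPair_cls X.two X.d_spec hp'] at this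
    obtain ⟨k, hk⟩ : IsSquare (q₀ p * q₀ p') := by
      have h3 := CfsgLib.TensorMax63.cls_mul X.two hp hp'
      rw [hcls, show cls (q₀ p') * cls (q₀ p') = 1 from Prod.ext (Int.units_mul_self _) (Int.units_mul_self _),
        one_mul] at h3
      by_contra hns
      unfold cls at h3
      rw [if_neg hns] at h3
      exact absurd h3 (by decide)
    have hk0 : k ≠ 0 := fun h0 => mul_ne_zero hp hp' (by rw [hk, h0, mul_zero])
    set t := q₀ p / k with ht
    have hqt : q₀ (t • p') = q₀ p := by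
      rw [QuadraticMap.map_smul, smul_eq_mul, ht, div_mul_div_comm, div_mul_eq_mul_div, div_eq_iff (mul_ne_zero hk0 hk0),
        ← hk]
      ring
    have ht0 : t ≠ 0 := div_ne_zero hp hk0
    by_cases hd : q₀ (p - t • p') = 0
    · have hs : q₀ (p + t • p') ≠ 0 := by
        intro hs
        rw [sub_eq_add_neg, QuadraticMap.map_add ⇑q₀, QuadraticMap.map_neg, polar_neg_right] at hd
        rw [QuadraticMap.map_add ⇑q₀] at hs
        have e : (2 : F) * ((2 : F) * q₀ p) = 0 := by rw [hqt] at hd hs; linear_combination hd + hs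
        exact hp ((mul_eq_zero.1 ((mul_eq_zero.1 e).resolve_left X.two)).resolve_left X.two)
      refine ⟨refl q₀ (p + t • p'), ?_⟩
      rw [flp_conj, show app (refl q₀ (p + t • p')) p = (-t) • p' from ?_, flp_smul (neg_ne_zero.2 ht0)]
      rw [app_refl, show polar q₀ p (p + t • p') = q₀ (p + t • p') by
        rw [polar_add_right, polar_self', QuadraticMap.map_add ⇑q₀, hqt]; ring, inv_mul_cancel₀ hs]
      module
    · refine ⟨refl q₀ (p - t • p'), ?_⟩
      rw [flp_conj, show app (refl q₀ (p - t • p')) p = t • p' from ?_, flp_smul ht0]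
      rw [app_refl, show polar q₀ p (p - t • p') = q₀ (p - t • p') by
        rw [polar_sub_right, polar_self', sub_eq_add_neg p, QuadraticMap.map_add ⇑q₀, QuadraticMap.map_neg, hqt,
          polar_neg_right]; ring, inv_mul_cancel₀ hd]
      module
  intro y
  have hP := nondeg_inf X.two (nondeg_top X.nd₀) trivial hp'
  have i1 := finrank_inf_ge X.nd₀ (⊤ : Submodule F (Fin 3 → F)) p'
  rw [finrank_top, Module.finrank_fin_fun] at i1
  let S : Subgroup (O q₀) := Subgroup.centralizer ({flp p'} : Set (O q₀))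
  obtain ⟨h', hS, hh⟩ := surj_of_plane X.two S hP (by omega) (fun v hv _ => by
    rw [Subgroup.mem_centralizer_singleton_iff]
    have := flp_conj (refl q₀ v) p'
    rw [app_refl_of_ortho (mem_orth_one.1 hv.2), mul_inv_eq_iff_eq_mul] at this
    exact this) X.d X.d_spec (y * (X.χ g)⁻¹)
  rw [Subgroup.mem_centralizer_singleton_iff] at hS
  refine ⟨h' * g, ?_, ?_⟩
  · rw [show h' * g * flp p * (h' * g)⁻¹ = h' * (g * flp p * g⁻¹) * h'⁻¹ by group, hg, hS, mul_inv_cancel_right]
  · rw [map_mul, show X.χ h' = y * (X.χ g)⁻¹ from hh, inv_mul_cancel_right]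

/-! ### Involutions of the stabiliser -/

/-- A pure involution of the square class. -/
def Pure (g : O q) : Prop := ∃ a, Flip a ∧ X.χ a = 1 ∧ (g = X.emb (a, 1) ∨ g = X.emb (1, a))

/-- A mixed involution. -/
def Mix (g : O q) : Prop := ∃ a b, Flip a ∧ Flip b ∧ X.χ a = X.χ b ∧ g = X.emb (a, b)

theorem classify {g : O q} (hg : g ∈ X.T) (hΩ : g ∈ commutator (O q)) (h2 : g * g = 1) (h1 : g ≠ 1) :
    X.Pure g ∨ X.Mix g := by
  obtain ⟨a, b, hda, hdb, hχ, rfl⟩ := X.normalise hg hΩ
  obtain ⟨ha, hb⟩ := X.emb_inj (a' := 1) (b' := 1) (by rw [map_mul, hda, mul_one]) (map_one _)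
    (by rw [show (a * a, b * b) = (a, b) * (a, b) from rfl, map_mul, h2, Prod.mk_one_one, map_one])
  by_cases ea : a = 1
  · subst ea
    rw [map_one] at hχ
    exact Or.inl ⟨b, ⟨hdb, hb, fun e => h1 (by rw [e, Prod.mk_one_one, map_one])⟩, hχ.symm, Or.inr rfl⟩
  · by_cases eb : b = 1
    · subst eb
      rw [map_one] at hχ
      exact Or.inl ⟨a, ⟨hda, ha, ea⟩, hχ, Or.inl rfl⟩
    · exact Or.inr ⟨a, b, ⟨hda, ha, ea⟩, ⟨hdb, hb, eb⟩, hχ, rfl⟩

theorem Pure.tr {g : O q} (hg : X.Pure g) : tr g = -3 := by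
  obtain ⟨a, ha, -, rfl | rfl⟩ := hg <;> rw [X.tr_emb, X.tr_flip ha, X.tr_one] <;> norm_num

theorem Mix.tr {g : O q} (hg : X.Mix g) : tr g = 1 := by
  obtain ⟨a, b, ha, hb, -, rfl⟩ := hg
  rw [X.tr_emb, X.tr_flip ha, X.tr_flip hb]; norm_num

include X in
theorem tr_ne : (-3 : F) ≠ 1 := fun h => mul_ne_zero X.two X.two (by linear_combination -h)

theorem not_pure_of_tr {g : O q} (h : tr g = 1) : ¬ X.Pure g := fun hp => X.tr_ne (hp.tr X ▸ h)

theorem not_mix_of_tr {g : O q} (h : tr g = -3) : ¬ X.Mix g := fun hm => X.tr_ne ((hm.tr X ▸ h).symm)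

theorem tr_neg (g : O q) : tr (X.emb (1, negO q₀) * g) = -tr g := by
  have h : app (X.emb (1, negO q₀) * g) = -app g := LinearMap.ext fun z => by
    rw [app_mul, LinearMap.neg_apply]
    exact LinearMap.congr_fun (X.ext_τ (f := app (X.emb (1, negO q₀))) (g := -LinearMap.id) fun a b => by
      rw [X.app_emb, app_one, app_negO, map_neg]; rfl) _
  rw [tr, tr, h, map_neg]

/-- An involution of trace one preserving the decomposition up to the exchange preserves it. -/
theorem mem_T_of_tr {g : O q} (hg : X.InTw g) (h2 : g * g = 1) (htr : tr g = 1) : g ∈ X.T := by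
  rcases hg with hg | hg
  · exact hg
  exfalso
  obtain ⟨⟨a, b⟩, hab⟩ := hg
  have hg : g = X.emb (a, b) * X.σ := by rw [hab, mul_assoc, X.σ_σ, mul_one]
  have hsq : X.emb (a * b, b * a) = 1 := by
    rw [← h2, hg, show X.emb (a, b) * X.σ * (X.emb (a, b) * X.σ) = X.emb (a, b) * (X.σ * X.emb (a, b)) * X.σ by group,
      X.σ_emb, ← mul_assoc, ← map_mul, mul_assoc, X.σ_σ, mul_one]
    rfl
  rcases X.detHom_cases (a * b) with hd | hd
  · obtain ⟨h, -⟩ := X.emb_inj (a' := 1) (b' := 1) hd (map_one _) (by rw [hsq, Prod.mk_one_one, map_one])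
    rw [eq_inv_of_mul_eq_one_right h] at hg
    rw [hg, X.tr_emb_σ] at htr
    exact X.two (by linear_combination htr)
  · rw [← X.emb_neg] at hsq
    obtain ⟨h, -⟩ := X.emb_inj (a := negO q₀ * (a * b)) (b := negO q₀ * (b * a)) (a' := 1) (b' := 1)
      (by rw [map_mul, hd, detHom_negO q₀ (by decide), neg_one_mul, neg_neg]) (map_one _)
      (by rw [hsq, Prod.mk_one_one, map_one])
    have hb : b = negO q₀ * a⁻¹ := ext_app fun x => by
      have h' := congrArg (fun u => app u (app (b⁻¹ * b) x)) h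
      simp only [inv_mul_cancel, app_one, app_mul, app_negO] at h'
      rw [app_mul, app_negO]
      apply app_injective a
      rw [map_neg, app_app_inv]
      exact neg_eq_iff_eq_neg.1 h'
    have hg' : g = X.emb (1, negO q₀) * (X.emb (a, a⁻¹) * X.σ) := by
      rw [hg, hb, ← mul_assoc, ← map_mul, Prod.mk_mul_mk, one_mul]
    rw [hg', X.tr_neg, X.tr_emb_σ] at htr
    exact mul_ne_zero X.two X.two (by linear_combination -htr)

end Setting

end CfsgLib.TensorThree63
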