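import Cfsg.Agent.Lib.TensorThree63.Pure

/-!
A proper subgroup of `Ω` containing the tensor stabiliser and an exchange of the factors preserves the
decomposition up to the exchange.
-/

set_option autoImplicit false
set_option linter.unusedSectionVars false
set_option linter.unusedSimpArgs false

namespace CfsgLib.TensorThree63

open Matrix QuadraticMap CfsgLib.Orth

/-- Two involutions are conjugate or commute with a third one, in a prescribed way. -/
theorem dihedral {G : Type*} [Group G] [Finite G] (C : Subgroup G) {t s : G} (ht : t ∈ C) (hs : s ∈ C)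
    (ht2 : t * t = 1) (hs2 : s * s = 1) :
    (∃ u ∈ C, u * t * u⁻¹ = s) ∨ ∃ w ∈ C, w * w = 1 ∧ w ≠ 1 ∧ w * t = t * w ∧ w * s = s * w ∧
      ((∃ u ∈ C, u * (t * w) * u⁻¹ = s) ∨
        (∃ u ∈ C, u * t * u⁻¹ = t * w) ∧ ∃ u ∈ C, u * s * u⁻¹ = s * w) := by
  set r := t * s with hr
  have hrC : r ∈ C := C.mul_mem ht hs
  have hti : t⁻¹ = t := inv_eq_of_mul_eq_one_right ht2
  have hts : t * r = s := by rw [hr, ← mul_assoc, ht2, one_mul]
  have hflip : ∀ i : ℤ, r ^ i * t = t * r ^ (-i) := by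
    intro i
    have h1 : t * r * t⁻¹ = r⁻¹ := by
      rw [hts, hti, hr, _root_.mul_inv_rev, hti, inv_eq_of_mul_eq_one_right hs2]
    have h2 : t * r ^ (-i) * t⁻¹ = r ^ i := by
      rw [← conj_zpow, h1, _root_.inv_zpow, _root_.zpow_neg, inv_inv]
    conv_lhs => rw [← h2, inv_mul_cancel_right]
  have hconj : ∀ i j : ℤ, r ^ i * (t * r ^ j) * (r ^ i)⁻¹ = t * r ^ (j - 2 * i) := fun i j => by
    rw [← mul_assoc, hflip, ← _root_.zpow_neg, mul_assoc, mul_assoc, ← _root_.zpow_add, ← _root_.zpow_add]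
    congr 2
    ring
  have hord : r ^ (orderOf r : ℤ) = 1 := by rw [_root_.zpow_natCast, pow_orderOf_eq_one]
  rcases Nat.even_or_odd (orderOf r) with ⟨m, hm⟩ | ⟨k, hk⟩
  · have hm0 : 0 < m := by
      have := orderOf_pos r
      omega
    refine Or.inr ⟨r ^ (m : ℤ), C.zpow_mem hrC _, ?_, ?_, ?_, ?_, ?_⟩
    · rw [← _root_.zpow_add, ← Nat.cast_add, ← hm, hord]
    · rw [_root_.zpow_natCast]
      exact pow_ne_one_of_lt_orderOf hm0.ne' (by omega)
    · rw [hflip]
      congr 1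
      rw [_root_.zpow_neg, inv_eq_of_mul_eq_one_right]
      rw [← _root_.zpow_add, ← Nat.cast_add, ← hm, hord]
    · rw [← hts, ← mul_assoc, hflip, mul_assoc, mul_assoc, _root_.zpow_neg, inv_eq_of_mul_eq_one_right (b := r ^ (m : ℤ))
        (by rw [← _root_.zpow_add, ← Nat.cast_add, ← hm, hord])]
      congr 1
      exact (Commute.zpow_self r _).eq
    · rcases Nat.even_or_odd m with ⟨k, hk⟩ | ⟨k, hk⟩
      · refine Or.inr ⟨⟨r ^ (-(k : ℤ)), C.zpow_mem hrC _, ?_⟩, ⟨r ^ (-(k : ℤ)), C.zpow_mem hrC _, ?_⟩⟩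
        · have h := hconj (-(k : ℤ)) 0
          rw [_root_.zpow_zero, mul_one] at h
          rw [h]
          congr 2
          omega
        · have h := hconj (-(k : ℤ)) 1
          rw [_root_.zpow_one, hts] at h
          rw [h, ← hts, mul_assoc, ← _root_.zpow_one_add]
          congr 2
          omega
      · refine Or.inl ⟨r ^ (k : ℤ), C.zpow_mem hrC _, ?_⟩
        rw [hconj, ← hts]
        conv_rhs => rw [← _root_.zpow_one r]
        congr 2
        omega
  · refine Or.inl ⟨r ^ (k : ℤ), C.zpow_mem hrC _, ?_⟩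
    have h := hconj k 0
    rw [_root_.zpow_zero, mul_one] at h
    rw [h, ← hts]
    congr 1
    conv_rhs => rw [← mul_one r, ← _root_.inv_one, ← hord, ← _root_.zpow_neg, ← _root_.zpow_one_add]
    congr 1
    omega

variable {ι : Type} [Fintype ι] [DecidableEq ι] {F : Type*} [Field F] [Fintype F] [DecidableEq F]
  {q : QuadraticForm F (ι → F)} {q₀ : QuadraticForm F (Fin 3 → F)}

theorem Flip.conj {a : O q₀} (ha : Flip a) (g : O q₀) : Flip (g * a * g⁻¹) :=
  ⟨by rw [map_mul, map_mul, map_inv, ha.det, mul_one, mul_inv_cancel],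
    by rw [conj_mul, ha.sq, mul_one, mul_inv_cancel], fun h => ha.ne (conj_eq_one_iff.1 h)⟩

variable (X : Setting q q₀)

namespace Setting

variable {M : Subgroup (O q)}

theorem emb_comm {a b c d : O q₀} (h₁ : a * c = c * a) (h₂ : b * d = d * b) :
    X.emb (a, b) * X.emb (c, d) = X.emb (c, d) * X.emb (a, b) := by
  rw [← map_mul, ← map_mul, Prod.mk_mul_mk, Prod.mk_mul_mk, h₁, h₂]

theorem comm_of_emb {a b c d : O q₀} (ha : detHom q₀ a = 1) (hc : detHom q₀ c = 1)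
    (h : X.emb (a, b) * X.emb (c, d) = X.emb (c, d) * X.emb (a, b)) : a * c = c * a ∧ b * d = d * b := by
  rw [← map_mul, ← map_mul] at h
  exact X.emb_inj (by rw [map_mul, ha, hc, mul_one]) (by rw [map_mul, ha, hc, mul_one]) h

theorem emb_sq {a b : O q₀} (ha : a * a = 1) (hb : b * b = 1) : X.emb (a, b) * X.emb (a, b) = 1 := by
  rw [← map_mul, Prod.mk_mul_mk, ha, hb, Prod.mk_one_one, map_one]

theorem emb_ne_one {a b : O q₀} (ha : Flip a) : X.emb (a, b) ≠ 1 := fun h =>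
  ha.ne (X.emb_inj (a' := 1) (b' := 1) ha.det (map_one _) (by rw [h, Prod.mk_one_one, map_one])).1

theorem tr_left {a : O q₀} (ha : Flip a) : tr (X.emb (a, 1)) = -3 := by
  rw [X.tr_emb, X.tr_flip ha, X.tr_one]; norm_num

theorem tr_right {a : O q₀} (ha : Flip a) : tr (X.emb (1, a)) = -3 := by
  rw [X.tr_emb, X.tr_flip ha, X.tr_one]; norm_num

theorem tr_mix {a b : O q₀} (ha : Flip a) (hb : Flip b) : tr (X.emb (a, b)) = 1 := by
  rw [X.tr_emb, X.tr_flip ha, X.tr_flip hb]; norm_num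

theorem mem_of_pair (hO : X.Over M) {a b : O q₀} (h : X.χ a = X.χ b) : X.emb (a, b) ∈ M := hO.le (X.emb_H h)

/-- An element conjugating a pure involution to a pure involution preserves the decomposition up to the exchange. -/
theorem inTw_of_image (hO : X.Over M) {a : O q₀} (ha : Flip a) (hχ : X.χ a = 1) {g : O q} (hg : g ∈ M)
    (hp : X.Pure (g * X.emb (a, 1) * g⁻¹)) : X.InTw g := by
  have hz : X.Pure (X.emb (a, 1)) := ⟨a, ha, hχ, Or.inl rfl⟩
  suffices ∃ x ∈ M, X.InTw x ∧ x * X.emb (a, 1) * x⁻¹ = g * X.emb (a, 1) * g⁻¹ by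
    obtain ⟨x, hxM, hx, he⟩ := this
    have hc : (x⁻¹ * g) * X.emb (a, 1) = X.emb (a, 1) * (x⁻¹ * g) := by
      have h := congrArg (fun y => x⁻¹ * y * g) he.symm
      simpa [mul_assoc] using h
    have h := X.centraliser_pure hO hz (M.mul_mem (M.inv_mem hxM) hg) hc
    have := InTw.mul X hx (Or.inl h)
    rwa [mul_inv_cancel_left] at this
  obtain ⟨a', ha', hχ', he | he⟩ := hp
  · obtain ⟨h, hh, -⟩ := X.conj_flip ha ha' (hχ.trans hχ'.symm) 1
    refine ⟨X.emb (h, h), X.mem_of_pair hO rfl, Or.inl (X.emb_mem_T _), ?_⟩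
    rw [he, ← map_inv, ← map_mul, ← map_mul]
    congr 1
    exact Prod.ext hh (by simp)
  · obtain ⟨t, ⟨⟨c, d⟩, rfl⟩, hts⟩ := hO.swap
    obtain ⟨h, hh, -⟩ := X.conj_flip (Flip.conj ha d) ha' (by rw [X.χ_conj, hχ, hχ']) 1
    have hs : X.InTw (X.emb (c, d) * X.σ) := Or.inr (by rw [mul_assoc, X.σ_σ, mul_one]; exact X.emb_mem_T _)
    refine ⟨X.emb (h, h) * (X.emb (c, d) * X.σ), M.mul_mem (X.mem_of_pair hO rfl) hts,
      InTw.mul X (Or.inl (X.emb_mem_T _)) hs, ?_⟩
    rw [he, _root_.mul_inv_rev, _root_.mul_inv_rev, inv_eq_of_mul_eq_one_right X.σ_σ,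
      show X.emb (h, h) * (X.emb (c, d) * X.σ) * X.emb (a, 1) * (X.σ * (X.emb (c, d))⁻¹ * (X.emb (h, h))⁻¹) =
        X.emb (h, h) * X.emb (c, d) * (X.σ * X.emb (a, 1)) * X.σ * (X.emb (c, d))⁻¹ * (X.emb (h, h))⁻¹ by group,
      X.σ_emb, ← mul_assoc, mul_assoc _ X.σ X.σ, X.σ_σ, mul_one, ← map_inv, ← map_inv, ← map_mul, ← map_mul,
      ← map_mul, ← map_mul]
    congr 1
    refine Prod.ext ?_ ?_
    · simp
    · simp only [Prod.snd_mul, Prod.snd_inv]
      rw [← hh]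
      group

/-- An element of the stabiliser commuting with an element of `M`. -/
theorem mem_T_of_pure (hO : X.Over M) {z g : O q} (hz : X.Pure z) (hg : g ∈ M) (hc : z * g = g * z) : g ∈ X.T :=
  X.centraliser_pure hO hz hg hc.symm

theorem pure_of_tr (hO : X.Over M) {x : O q} (hx : x ∈ X.T) (hxM : x ∈ M) (h2 : x * x = 1) (h1 : x ≠ 1)
    (htr : tr x = -3) : X.Pure x :=
  (X.classify hx (hO.omega hxM) h2 h1).resolve_right (X.not_mix_of_tr htr)

include X in
theorem three_ne_one : (-3 : F) ≠ 1 := X.tr_ne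

/-- An element of `M` centralising a four group of square mixed involutions preserves the decomposition up to the
exchange. -/
theorem centraliser_four (hO : X.Over M) {a₁ a₂ b₁ b₂ : O q₀} (ha₁ : Flip a₁) (ha₂ : Flip a₂) (hb₁ : Flip b₁)
    (hb₂ : Flip b₂) (ha : a₁ * a₂ = a₂ * a₁) (hb : b₁ * b₂ = b₂ * b₁) (hna : a₁ ≠ a₂) (hnb : b₁ ≠ b₂)
    (hχ₁ : X.χ a₁ = 1) (hχ₂ : X.χ a₂ = 1) (hψ₁ : X.χ b₁ = 1) (hψ₂ : X.χ b₂ = 1) {g : O q} (hg : g ∈ M)
    (hg₁ : g * X.emb (a₁, b₁) = X.emb (a₁, b₁) * g) (hg₂ : g * X.emb (a₂, b₂) = X.emb (a₂, b₂) * g) :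
    X.InTw g := by
  set e₁ := X.emb (a₁, b₁) with he₁
  set e₂ := X.emb (a₂, b₂) with he₂
  let C : Subgroup (O q) := M ⊓ Subgroup.centralizer ({e₁, e₂} : Set (O q))
  have hC : ∀ {x}, x ∈ M → x * e₁ = e₁ * x → x * e₂ = e₂ * x → x ∈ C := fun hx h₁ h₂ =>
    ⟨hx, Subgroup.mem_centralizer_iff.2 fun y hy => by
      rcases hy with rfl | rfl
      · exact h₁.symm
      · exact h₂.symm⟩
  have hC₁ : ∀ {x}, x ∈ C → x * e₁ = e₁ * x := fun hx => (Subgroup.mem_centralizer_iff.1 hx.2 e₁ (Or.inl rfl)).symm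
  have hC₂ : ∀ {x}, x ∈ C → x * e₂ = e₂ * x := fun hx => (Subgroup.mem_centralizer_iff.1 hx.2 e₂ (Or.inr rfl)).symm
  have ha₃ := ha₁.mul ha₂ ha hna
  have hb₃ := hb₁.mul hb₂ hb hnb
  set t := X.emb (a₁, 1) with ht
  set s := X.emb (a₂, 1) with hs
  have htC : t ∈ C := hC (X.mem_of_pair hO (by rw [hχ₁, map_one])) (X.emb_comm rfl (by simp))
    (X.emb_comm ha (by simp))
  have hsC : s ∈ C := hC (X.mem_of_pair hO (by rw [hχ₂, map_one])) (X.emb_comm ha.symm (by simp))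
    (X.emb_comm rfl (by simp))
  have hgC : g ∈ C := hC hg hg₁ hg₂
  set s' := g * s * g⁻¹ with hs'
  have hs'C : s' ∈ C := C.mul_mem (C.mul_mem hgC hsC) (C.inv_mem hgC)
  have htr : tr s' = -3 := by rw [hs', tr_conj, hs, X.tr_left ha₂]
  have htt : tr t = -3 := X.tr_left ha₁
  -- the traces with `e₁`
  have hse : tr (s' * e₁) = 1 := by
    rw [show s' * e₁ = g * (s * e₁) * g⁻¹ by
      rw [hs', mul_assoc (g * s), show g⁻¹ * e₁ = e₁ * g⁻¹ from Commute.inv_left hg₁]; group,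
      tr_conj, hs, he₁, ← map_mul, Prod.mk_mul_mk, one_mul,
      X.tr_mix (ha₂.mul ha₁ ha.symm (Ne.symm hna)) hb₁]
  have hte : tr (t * e₁) = -3 := by
    rw [ht, he₁, ← map_mul, Prod.mk_mul_mk, ha₁.sq, one_mul, X.tr_right hb₁]
  have htrw : ∀ {u x}, u ∈ C → tr (u * x * u⁻¹ * e₁) = tr (x * e₁) := fun {u x} hu => by
    rw [show u * x * u⁻¹ * e₁ = u * (x * e₁) * u⁻¹ by
      rw [mul_assoc (u * x), show u⁻¹ * e₁ = e₁ * u⁻¹ from Commute.inv_left (hC₁ hu)]; group, tr_conj]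
  rcases dihedral C htC hs'C (X.emb_sq ha₁.sq (one_mul 1)) (by
    rw [hs', conj_mul, hs, X.emb_sq ha₂.sq (one_mul 1), mul_one, mul_inv_cancel]) with ⟨u, hu, he⟩ | h
  · exact absurd ((htrw (x := t) hu).symm.trans (by rw [he, hse])) (by rw [hte]; exact X.three_ne_one)
  obtain ⟨w, hwC, hw2, hw1, hwt, hws, hcase⟩ := h
  have hwT : w ∈ X.T := X.mem_T_of_pure hO ⟨a₁, ha₁, hχ₁, Or.inl rfl⟩ hwC.1 hwt.symm
  suffices hs'T : s' ∈ X.T by
    refine X.inTw_of_image hO ha₂ hχ₂ hg (X.pure_of_tr hO hs'T hs'C.1 ?_ ?_ htr)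
    · rw [conj_mul, X.emb_sq ha₂.sq (one_mul 1), mul_one, mul_inv_cancel]
    · exact fun h => X.emb_ne_one ha₂ (conj_eq_one_iff.1 h)
  rcases X.classify hwT (hO.omega hwC.1) hw2 hw1 with hp | ⟨c, d, hc, hd, hcd, rfl⟩
  · exact X.mem_T_of_pure hO hp hs'C.1 hws
  obtain ⟨c1, d1⟩ := X.comm_of_emb hc.det ha₁.det (hC₁ hwC)
  obtain ⟨c2, d2⟩ := X.comm_of_emb hc.det ha₂.det (hC₂ hwC)
  -- a pure element of the group generated by `w`, `e₁` and `e₂`
  have key : ∀ {e : O q} {x y : O q₀}, e = X.emb (x, y) → s' * e = e * s' → x = c → Flip (d * y) →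
      X.χ (d * y) = 1 → s' ∈ X.T := fun {e x y} he hse hxc hf hχ => by
    refine X.mem_T_of_pure hO (z := X.emb (c, d) * e) ⟨_, hf, hχ, Or.inr ?_⟩ hs'C.1 ?_
    · rw [he, hxc, ← map_mul, Prod.mk_mul_mk, hc.sq]
    · rw [mul_assoc, ← hse, ← mul_assoc, hws, mul_assoc]
  -- exclusion of the three diagonal elements
  have hnot : ∀ {x y : O q₀}, Flip y → Flip (a₁ * x) → X.emb (c, d) = X.emb (x, y) → False := by
    intro x y hy hxy h
    rcases hcase with ⟨u, hu, he⟩ | ⟨⟨u, hu, he⟩, -⟩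
    · have := congrArg tr he
      rw [tr_conj, htr, h, ht, ← map_mul, Prod.mk_mul_mk, one_mul, X.tr_mix hxy hy] at this
      exact X.three_ne_one this.symm
    · have := congrArg tr he
      rw [tr_conj, htt, h, ht, ← map_mul, Prod.mk_mul_mk, one_mul, X.tr_mix hxy hy] at this
      exact X.three_ne_one this
  have hnot₁ : X.emb (c, d) ≠ e₁ := by
    intro h
    rcases hcase with ⟨u, hu, he⟩ | ⟨-, ⟨u, hu, he⟩⟩
    · rw [h] at he
      have := (htrw (x := t * e₁) hu).symm.trans (by rw [he, hse])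
      rw [mul_assoc, show e₁ * e₁ = 1 from X.emb_sq ha₁.sq hb₁.sq, mul_one, htt] at this
      exact X.three_ne_one this
    · rw [h] at he
      have := congrArg tr he
      rw [tr_conj, htr, hse] at this
      exact X.three_ne_one this
  have hc' := X.flip_cases ha₁ ha₂ ha hna hc c1.symm c2.symm
  have hd' := X.flip_cases hb₁ hb₂ hb hnb hd d1.symm d2.symm
  have hse₁ : s' * e₁ = e₁ * s' := hC₁ hs'C
  have hse₂ : s' * e₂ = e₂ * s' := hC₂ hs'C
  rcases hc' with rfl | rfl | rfl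
  · have hdb : d ≠ b₁ := fun h => hnot₁ (by rw [h])
    exact key he₁ hse₁ rfl (hd.mul hb₁ d1 hdb) (by rw [map_mul, hψ₁, ← hcd, hχ₁, one_mul])
  · have hdb : d ≠ b₂ := fun h => hnot hb₂ ha₃ (by rw [h])
    exact key he₂ hse₂ rfl (hd.mul hb₂ d2 hdb) (by rw [map_mul, hψ₂, ← hcd, hχ₂, one_mul])
  · have hdb : d ≠ b₁ * b₂ := fun h => hnot hb₃ (by rw [← mul_assoc, ha₁.sq, one_mul]; exact ha₂) (by rw [h])
    refine key (e := e₁ * e₂) (by rw [he₁, he₂, ← map_mul, Prod.mk_mul_mk]) ?_ rfl (hd.mul hb₃ ?_ hdb)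
      (by rw [map_mul, map_mul X.χ b₁, hψ₁, hψ₂, ← hcd, map_mul, hχ₁, hχ₂]; simp)
    · rw [← mul_assoc, hse₁, mul_assoc, hse₂, ← mul_assoc]
    · rw [← mul_assoc, d1, mul_assoc, d2, ← mul_assoc]

/-- An element of `M` commuting with a square mixed involution preserves the decomposition up to the exchange. -/
theorem centraliser_square (hO : X.Over M) {a b : O q₀} (ha : Flip a) (hb : Flip b) (hχa : X.χ a = 1)
    (hχb : X.χ b = 1) {g : O q} (hg : g ∈ M) (hgz : g * X.emb (a, b) = X.emb (a, b) * g) : X.InTw g := by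
  set z := X.emb (a, b) with hz
  obtain ⟨-, -, -, hgood⟩ := X.exists_good
  obtain ⟨a', ha', hχa', haa', hna⟩ := hgood a ha hχa
  obtain ⟨b', hb', hχb', hbb', hnb⟩ := hgood b hb hχb
  obtain ⟨a'', ha''d⟩ : ∃ x, x = a * a' := ⟨_, rfl⟩
  have ha'' : Flip a'' := ha''d ▸ ha.mul ha' haa' hna
  have hb'' : Flip (b' * b) := hb'.mul hb hbb'.symm (Ne.symm hnb)
  have hχa'' : X.χ a'' = 1 := by rw [ha''d, map_mul, hχa, hχa', one_mul]
  let C : Subgroup (O q) := M ⊓ Subgroup.centralizer ({z} : Set (O q))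
  have hC : ∀ {x}, x ∈ C → x * z = z * x := fun hx => Subgroup.mem_centralizer_singleton_iff.1 hx.2
  set t := X.emb (a', 1) with ht
  have htC : t ∈ C := ⟨X.mem_of_pair hO (by rw [hχa', map_one]),
    Subgroup.mem_centralizer_singleton_iff.2 (X.emb_comm haa'.symm (by simp))⟩
  have hgC : g ∈ C := ⟨hg, Subgroup.mem_centralizer_singleton_iff.2 hgz⟩
  have key : ∀ x : O q₀, Flip x → Flip (x * a) → X.χ x = 1 → a * x = x * a →
      g * X.emb (x, b') * g⁻¹ ∈ X.T := by
    intro x hx hxa hχx hax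
    set s' := g * X.emb (x, b') * g⁻¹ with hs'
    have hsC : X.emb (x, b') ∈ C := ⟨X.mem_of_pair hO (hχx.trans hχb'.symm),
      Subgroup.mem_centralizer_singleton_iff.2 (X.emb_comm hax.symm hbb'.symm)⟩
    have hs'C : s' ∈ C := C.mul_mem (C.mul_mem hgC hsC) (C.inv_mem hgC)
    have hs'2 : s' * s' = 1 := by rw [hs', conj_mul, X.emb_sq hx.sq hb'.sq, mul_one, mul_inv_cancel]
    have htr : tr s' = 1 := by rw [hs', tr_conj, X.tr_mix hx hb']
    have hsz : tr (s' * z) = 1 := by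
      rw [show s' * z = g * (X.emb (x, b') * z) * g⁻¹ by
        rw [hs', mul_assoc (g * X.emb (x, b')), show g⁻¹ * z = z * g⁻¹ from Commute.inv_left hgz]; group,
        tr_conj, hz, ← map_mul, Prod.mk_mul_mk, X.tr_mix hxa hb'']
    suffices X.InTw s' from X.mem_T_of_tr this hs'2 htr
    rcases dihedral C htC hs'C (X.emb_sq ha'.sq (one_mul 1)) hs'2 with ⟨u, hu, he⟩ | h
    · have := congrArg tr he
      rw [tr_conj, ht, X.tr_left ha', htr] at this
      exact absurd this X.three_ne_one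
    obtain ⟨w, hwC, hw2, hw1, hwt, hws, hcase⟩ := h
    have hwT : w ∈ X.T := X.mem_T_of_pure hO ⟨a', ha', hχa', Or.inl rfl⟩ hwC.1 hwt.symm
    have hwz : w ≠ z := by
      rintro rfl
      rcases hcase with ⟨u, hu, he⟩ | ⟨⟨u, hu, he⟩, -⟩
      · have h2 : u * t * u⁻¹ = s' * z := by
          rw [← he, show u * (t * z) * u⁻¹ * z = u * (t * z) * (u⁻¹ * z) by group,
            show u⁻¹ * z = z * u⁻¹ from Commute.inv_left (hC hu),
            show u * (t * z) * (z * u⁻¹) = u * t * (z * z) * u⁻¹ by group, X.emb_sq ha.sq hb.sq, mul_one]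
        have := congrArg tr h2
        rw [tr_conj, ht, X.tr_left ha', hsz] at this
        exact X.three_ne_one this
      · have := congrArg tr he
        rw [tr_conj, ht, X.tr_left ha', hz, ← map_mul, Prod.mk_mul_mk, one_mul,
          X.tr_mix (ha'.mul ha haa'.symm (Ne.symm hna)) hb] at this
        exact X.three_ne_one this
    rcases X.classify hwT (hO.omega hwC.1) hw2 hw1 with hp | ⟨c, d, hc, hd, hcd, rfl⟩
    · exact Or.inl (X.mem_T_of_pure hO hp hs'C.1 hws)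
    obtain ⟨ca, db⟩ := X.comm_of_emb hc.det ha.det (hC hwC)
    obtain ⟨ca', -⟩ := X.comm_of_emb hc.det ha'.det hwt
    have hχc : X.χ c = 1 := by
      rcases X.flip_cases ha ha' haa' hna hc ca.symm ca'.symm with rfl | rfl | rfl
      · exact hχa
      · exact hχa'
      · rw [← ha''d]; exact hχa''
    have hs'z : s' * z = z * s' := hC hs'C
    have hs'wz : X.emb (c, d) * z * s' = s' * (X.emb (c, d) * z) := by
      rw [mul_assoc, ← hs'z, ← mul_assoc, hws, mul_assoc]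
    by_cases hdb : d = b
    · have hca : c ≠ a := fun h => hwz (by rw [h, hdb])
      exact Or.inl (X.mem_T_of_pure hO (z := X.emb (c, d) * z) ⟨c * a, hc.mul ha ca hca,
        by rw [map_mul, hχc, hχa, one_mul], Or.inl (by rw [hz, ← map_mul, Prod.mk_mul_mk, hdb, hb.sq])⟩
        hs'C.1 hs'wz)
    · by_cases hca : c = a
      · exact Or.inl (X.mem_T_of_pure hO (z := X.emb (c, d) * z) ⟨d * b, hd.mul hb db hdb,
          by rw [map_mul, ← hcd, hχc, hχb, one_mul], Or.inr (by rw [hz, ← map_mul, Prod.mk_mul_mk, hca, ha.sq])⟩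
          hs'C.1 hs'wz)
      · exact X.centraliser_four hO ha hc hb hd ca.symm db.symm (Ne.symm hca) (Ne.symm hdb) hχa hχc hχb
          (hcd ▸ hχc) hs'C.1 hs'z hws.symm
  have h₁ := key a' ha' (ha'.mul ha haa'.symm (Ne.symm hna)) hχa' haa'
  have h₂ := key a'' ha'' (by rw [ha''d, mul_assoc, ← haa', ← mul_assoc, ha.sq, one_mul]; exact ha') hχa'' (by
    rw [ha''d, mul_assoc a a', haa'])
  have hp : g * X.emb (a, 1) * g⁻¹ = g * X.emb (a', b') * g⁻¹ * (g * X.emb (a'', b') * g⁻¹) := by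
    rw [conj_mul, ← map_mul, Prod.mk_mul_mk, hb'.sq, ha''d, ← mul_assoc a', ← haa', mul_assoc a, ha'.sq, mul_one]
  refine X.inTw_of_image hO ha hχa hg (X.pure_of_tr hO (hp ▸ X.T.mul_mem h₁ h₂)
    (M.mul_mem (M.mul_mem hg (X.mem_of_pair hO (by rw [hχa, map_one]))) (M.inv_mem hg)) ?_ ?_ ?_)
  · rw [conj_mul, X.emb_sq ha.sq (one_mul 1), mul_one, mul_inv_cancel]
  · exact fun h => X.emb_ne_one ha (conj_eq_one_iff.1 h)
  · rw [tr_conj, X.tr_left ha]

/-- A proper overgroup preserves the decomposition up to the exchange. -/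
theorem Over.inTw (hO : X.Over M) {g : O q} (hg : g ∈ M) : X.InTw g := by
  obtain ⟨a, ha, hχa, hgood⟩ := X.exists_good
  obtain ⟨a', ha', hχa', haa', hna⟩ := hgood a ha hχa
  obtain ⟨a'', ha''d⟩ : ∃ x, x = a * a' := ⟨_, rfl⟩
  have ha'' : Flip a'' := ha''d ▸ ha.mul ha' haa' hna
  have hχa'' : X.χ a'' = 1 := by rw [ha''d, map_mul, hχa, hχa', one_mul]
  set t := X.emb (a, 1) with ht
  have htp : X.Pure t := ⟨a, ha, hχa, Or.inl rfl⟩
  have htM : t ∈ M := X.mem_of_pair hO (by rw [hχa, map_one])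
  have htt : tr t = -3 := X.tr_left ha
  have ht2 : t * t = 1 := X.emb_sq ha.sq (one_mul 1)
  have key : ∀ x : O q₀, Flip x → X.χ x = 1 → g * X.emb (x, a') * g⁻¹ ∈ X.T := by
    intro x hx hχx
    set s := X.emb (x, a') with hs
    have hsM : s ∈ M := X.mem_of_pair hO (hχx.trans hχa'.symm)
    set s' := g * s * g⁻¹ with hs'
    have hs'M : s' ∈ M := M.mul_mem (M.mul_mem hg hsM) (M.inv_mem hg)
    have hs'2 : s' * s' = 1 := by rw [hs', conj_mul, hs, X.emb_sq hx.sq ha'.sq, mul_one, mul_inv_cancel]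
    have htr : tr s' = 1 := by rw [hs', tr_conj, hs, X.tr_mix hx ha']
    suffices X.InTw s' from X.mem_T_of_tr this hs'2 htr
    rcases dihedral M htM hs'M ht2 hs'2 with ⟨u, hu, he⟩ | h
    · have := congrArg tr he
      rw [tr_conj, htt, htr] at this
      exact absurd this X.three_ne_one
    obtain ⟨w, hwM, hw2, hw1, hwt, hws, -⟩ := h
    have hwT : w ∈ X.T := X.mem_T_of_pure hO htp hwM hwt.symm
    rcases X.classify hwT (hO.omega hwM) hw2 hw1 with hp | ⟨c, d, hc, hd, hcd, rfl⟩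
    · exact Or.inl (X.mem_T_of_pure hO hp hs'M hws)
    by_cases hχc : X.χ c = 1
    · exact X.centraliser_square hO hc hd hχc (hcd ▸ hχc) hs'M hws.symm
    obtain ⟨ca, -⟩ := X.comm_of_emb hc.det ha.det hwt
    have hca : c ≠ a := fun h => hχc (h ▸ hχa)
    -- inside the centraliser of `w`
    set w := X.emb (c, d) with hwd
    let C : Subgroup (O q) := M ⊓ Subgroup.centralizer ({w} : Set (O q))
    rcases dihedral C (t := t) (s := s') ⟨htM, Subgroup.mem_centralizer_singleton_iff.2 hwt.symm⟩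
      ⟨hs'M, Subgroup.mem_centralizer_singleton_iff.2 hws.symm⟩ ht2 hs'2 with ⟨u, hu, he⟩ | h
    · have := congrArg tr he
      rw [tr_conj, htt, htr] at this
      exact absurd this X.three_ne_one
    obtain ⟨w₂, hw₂C, hw₂2, hw₂1, hw₂t, hw₂s, hcase⟩ := h
    have hw₂w : w₂ * w = w * w₂ := Subgroup.mem_centralizer_singleton_iff.1 hw₂C.2
    by_cases hne : w₂ = w
    · rw [hne] at hcase
      exfalso
      have htw : tr (t * w) = 1 := by
        rw [ht, hwd, ← map_mul, Prod.mk_mul_mk, one_mul, X.tr_mix (ha.mul hc ca.symm (Ne.symm hca)) hd]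
      rcases hcase with ⟨u, hu, he⟩ | ⟨⟨u, hu, he⟩, -⟩
      swap
      · have := congrArg tr he
        rw [tr_conj, htt, htw] at this
        exact X.three_ne_one this
      have huw : u⁻¹ * w = w * u⁻¹ :=
        Commute.inv_left (Subgroup.mem_centralizer_singleton_iff.1 hu.2)
      set k := g⁻¹ * u with hk
      set w' := g⁻¹ * w * g with hw'
      have hy : k * t * k⁻¹ = s * w' := by
        have h1 : u * t * u⁻¹ = s' * w := by
          rw [← he, show u * (t * w) * u⁻¹ * w = u * (t * w) * (u⁻¹ * w) by group, huw,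
            show u * (t * w) * (w * u⁻¹) = u * t * (w * w) * u⁻¹ by group, hw2, mul_one]
        rw [hk, _root_.mul_inv_rev, inv_inv, show g⁻¹ * u * t * (u⁻¹ * g) = g⁻¹ * (u * t * u⁻¹) * g by group,
          h1, hs', hw']
        group
      have hw's : w' * s = s * w' := by
        have := congrArg (fun y => g⁻¹ * y * g) hws
        rw [hs'] at this
        calc w' * s = g⁻¹ * (w * (g * s * g⁻¹)) * g := by rw [hw']; group
          _ = g⁻¹ * (g * s * g⁻¹ * w) * g := this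
          _ = s * w' := by rw [hw']; group
      have hw'T : w' ∈ X.T := by
        refine X.mem_T_of_tr (X.centraliser_square hO hx ha' hχx hχa'
          (M.mul_mem (M.mul_mem (M.inv_mem hg) hwM) hg) hw's) ?_ ?_
        · rw [hw', show g⁻¹ * w * g * (g⁻¹ * w * g) = g⁻¹ * (w * w) * g by group, hw2, mul_one, inv_mul_cancel]
        · have := tr_conj g⁻¹ w
          rw [inv_inv] at this
          rw [hw', this, hwd, X.tr_mix hc hd]
      have hkM : k ∈ M := M.mul_mem (M.inv_mem hg) hu.1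
      have hkT : X.InTw k := by
        refine X.inTw_of_image hO ha hχa hkM (X.pure_of_tr hO (hy ▸ X.T.mul_mem (X.emb_mem_T _) hw'T)
          (M.mul_mem (M.mul_mem hkM htM) (M.inv_mem hkM)) ?_ ?_ ?_)
        · rw [conj_mul, ht2, mul_one, mul_inv_cancel]
        · exact fun h => X.emb_ne_one ha (conj_eq_one_iff.1 h)
        · rw [tr_conj, htt]
      have hks : k * (t * w) * k⁻¹ = s := by
        rw [hk, _root_.mul_inv_rev, inv_inv, show g⁻¹ * u * (t * w) * (u⁻¹ * g) = g⁻¹ * (u * (t * w) * u⁻¹) * g by group,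
          he, hs']
        group
      have hd1 : X.χ d = 1 := by
        rw [ht, hwd, ← map_mul, Prod.mk_mul_mk, one_mul, hs] at hks
        rcases hkT with ⟨⟨k₁, k₂⟩, hk'⟩ | ⟨⟨k₁, k₂⟩, hk'⟩
        · rw [← hk', ← map_inv, ← map_mul, ← map_mul] at hks
          have h := (X.emb_inj (a' := x) (b' := a') (by
            simp [map_mul, ha.det, hc.det]) hx.det hks).2
          rw [← X.χ_conj k₂ d]
          show X.χ (k₂ * d * k₂⁻¹) = 1
          simp only [Prod.snd_inv, Prod.snd_mul] at h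
          rw [h, hχa']
        · have hk'' : k = X.emb (k₁, k₂) * X.σ := by rw [hk', mul_assoc, X.σ_σ, mul_one]
          rw [hk'', _root_.mul_inv_rev, inv_eq_of_mul_eq_one_right X.σ_σ,
            show X.emb (k₁, k₂) * X.σ * X.emb (a * c, d) * (X.σ * (X.emb (k₁, k₂))⁻¹) =
              X.emb (k₁, k₂) * (X.σ * X.emb (a * c, d)) * X.σ * (X.emb (k₁, k₂))⁻¹ by group,
            X.σ_emb, ← mul_assoc, mul_assoc _ X.σ X.σ, X.σ_σ, mul_one, ← map_inv, ← map_mul, ← map_mul] at hks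
          have h := (X.emb_inj (a' := x) (b' := a') (by simp [map_mul, hd.det]) hx.det hks).1
          rw [← X.χ_conj k₁ d]
          simp only [Prod.fst_inv, Prod.fst_mul] at h
          rw [h, hχx]
      exact hχc (hcd ▸ hd1)
    · have hw₂T : w₂ ∈ X.T := X.mem_T_of_pure hO htp hw₂C.1 hw₂t.symm
      rcases X.classify hw₂T (hO.omega hw₂C.1) hw₂2 hw₂1 with hp | ⟨c₂, d₂, hc₂, hd₂, hcd₂, rfl⟩
      · exact Or.inl (X.mem_T_of_pure hO hp hs'M hw₂s)
      by_cases hχc₂ : X.χ c₂ = 1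
      · exact X.centraliser_square hO hc₂ hd₂ hχc₂ (hcd₂ ▸ hχc₂) hs'M hw₂s.symm
      obtain ⟨cc, dd⟩ := X.comm_of_emb hc₂.det hc.det hw₂w
      obtain ⟨c₂a, -⟩ := X.comm_of_emb hc₂.det ha.det hw₂t
      have hs'ww : X.emb (c₂, d₂) * w * s' = s' * (X.emb (c₂, d₂) * w) := by
        rw [mul_assoc, hws, ← mul_assoc, hw₂s, mul_assoc]
      rcases X.flip_cases ha hc ca.symm (Ne.symm hca) hc₂ c₂a.symm cc.symm with rfl | rfl | rfl
      · exact absurd hχa hχc₂
      · have hdd : d₂ ≠ d := fun h => hne (by rw [hwd, h])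
        exact Or.inl (X.mem_T_of_pure hO (z := X.emb (c₂, d₂) * w) ⟨d₂ * d, hd₂.mul hd dd hdd,
          by rw [map_mul, ← hcd₂, ← hcd, X.χ_sq], Or.inr (by rw [hwd, ← map_mul, Prod.mk_mul_mk, hc.sq])⟩
          hs'M hs'ww)
      · have hχ : X.χ (d₂ * d) = 1 := by
          rw [map_mul, ← hcd₂, ← hcd, map_mul, hχa, one_mul, X.χ_sq]
        have hw₂wa : X.emb (a * c, d₂) * w = X.emb (a, d₂ * d) := by
          rw [hwd, ← map_mul, Prod.mk_mul_mk, mul_assoc, hc.sq, mul_one]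
        rw [hw₂wa] at hs'ww
        by_cases hdd : d₂ = d
        · rw [hdd, hd.sq] at hs'ww
          exact Or.inl (X.mem_T_of_pure hO htp hs'M hs'ww)
        · exact X.centraliser_square hO ha (hd₂.mul hd dd hdd) hχa hχ hs'M hs'ww.symm
  have h₁ := key a' ha' hχa'
  have h₂ := key a'' ha'' hχa''
  have hp : g * X.emb (a, 1) * g⁻¹ = g * X.emb (a', a') * g⁻¹ * (g * X.emb (a'', a') * g⁻¹) := by
    rw [conj_mul, ← map_mul, Prod.mk_mul_mk, ha'.sq, ha''d, ← mul_assoc a', ← haa', mul_assoc a, ha'.sq, mul_one]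
  refine X.inTw_of_image hO ha hχa hg (X.pure_of_tr hO (hp ▸ X.T.mul_mem h₁ h₂)
    (M.mul_mem (M.mul_mem hg htM) (M.inv_mem hg)) ?_ ?_ ?_)
  · rw [conj_mul, ht2, mul_one, mul_inv_cancel]
  · exact fun h => X.emb_ne_one ha (conj_eq_one_iff.1 h)
  · rw [tr_conj, htt]

end Setting

end CfsgLib.TensorThree63
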