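import Cfsg.Agent.Lib.TensorThree63.Centre
import Cfsg.Agent.Lib.Coprime.HyperplaneGeneration
import Cfsg.Agent.Lib.Solvable.Fitting
import Cfsg.Agent.Lib.HallHigman.Linear

/-!
An element of a proper overgroup of the wreathed tensor stabiliser commuting with a pure involution preserves
the decomposition.
-/

set_option autoImplicit false
set_option linter.unusedSectionVars false
set_option linter.unusedSimpArgs false

namespace CfsgLib.TensorThree63

open Matrix QuadraticMap CfsgLib.Orth
open CfsgLib.GeomClasses (OrthTools.orth OrthTools.mem_orth)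
open CfsgLib.TensorMax63 (negO app_negO detHom_negO surj_of_plane Nondeg nondeg_top nondeg_inf finrank_inf_ge
  mem_orth_one eq_one_of_fix eich_mem_commutator ext_polar)

variable {ι : Type} [Fintype ι] [DecidableEq ι] {F : Type*} [Field F] [Fintype F] [DecidableEq F]
  {q : QuadraticForm F (ι → F)} {q₀ : QuadraticForm F (Fin 3 → F)} (X : Setting q q₀)

namespace Setting

variable {M : Subgroup (O q)}

/-- The elements of `M` fixing the slice of `l`. -/
def fixSlice (M : Subgroup (O q)) (l : Fin 3 → F) : Subgroup (O q) where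
  carrier := {g | g ∈ M ∧ ∀ x, app g (X.τ x l) = X.τ x l}
  one_mem' := ⟨M.one_mem, fun x => app_one _⟩
  mul_mem' := fun {g h} hg hh => ⟨M.mul_mem hg.1 hh.1, fun x => by rw [app_mul, hh.2, hg.2]⟩
  inv_mem' := fun {g} hg => ⟨M.inv_mem hg.1, fun x => by
    conv_lhs => rw [← hg.2 x, app_inv_app]⟩

theorem mem_fixSlice {l : Fin 3 → F} {g : O q} :
    g ∈ X.fixSlice M l ↔ g ∈ M ∧ ∀ x, app g (X.τ x l) = X.τ x l := Iff.rfl

/-- A tensor fixing a slice is pure. -/
theorem fix_slice_T {l : Fin 3 → F} (hl : l ≠ 0) {g : O q} (hg : g ∈ X.T) (hΩ : g ∈ commutator (O q))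
    (h : ∀ x, app g (X.τ x l) = X.τ x l) :
    ∃ u, detHom q₀ u = 1 ∧ app u l = l ∧ g = X.emb (1, u) := by
  obtain ⟨a, b, ha, hb, -, rfl⟩ := X.normalise hg hΩ
  obtain ⟨φ, hφ⟩ := exists_polar_eq_one X.nd₀ (v := app b l)
    (fun h0 => hl (app_injective b (by rw [h0, map_zero])))
  have hax : ∀ x, app a x = polar q₀ l φ • x := fun x => by
    have := congrArg (X.C φ) (h x)
    rwa [X.app_emb, X.C_τ, X.C_τ, hφ, one_smul] at this
  obtain ⟨e, he⟩ := exists_anisotropic X.nd₀ (by simp)
  have he0 : e ≠ 0 := fun h => he (by rw [h, QuadraticMap.map_zero])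
  have hl2 : polar q₀ l φ * polar q₀ l φ = 1 := by
    have := Q_app a e
    rw [hax, QuadraticMap.map_smul, smul_eq_mul] at this
    exact mul_right_cancel₀ he (this.trans (one_mul _).symm)
  have ha1 : a = 1 := by
    rcases mul_self_eq_one_iff.1 hl2 with h1 | h1
    · exact ext_app fun x => by rw [hax, h1, one_smul, app_one]
    · exfalso
      have hneg : a = negO q₀ := ext_app fun x => by rw [hax, h1, neg_one_smul, app_negO]
      rw [hneg, detHom_negO q₀ (by decide)] at ha
      exact X.two (by have := congrArg Units.val ha; simp at this; linear_combination -this)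
  subst ha1
  refine ⟨b, hb, ?_, rfl⟩
  have := h e
  rw [X.app_emb, app_one, ← sub_eq_zero, ← map_sub] at this
  exact sub_eq_zero.1 (X.τ_inj_right he0 this)

include X in
/-- A non-trivial `p`-element of determinant one fixing an anisotropic vector does not exist. -/
theorem eq_one_of_pow_char {p : ℕ} [Fact p.Prime] [CharP F p] {l : Fin 3 → F} (hl : q₀ l ≠ 0) {b : O q₀}
    (hb : detHom q₀ b = 1) (hbl : app b l = l) (hbp : b ^ p = 1) : b = 1 := by
  let N : Module.End F (Fin 3 → F) := app b - 1
  have happ : ∀ n : ℕ, app (b ^ n) = app b ^ n := by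
    intro n
    induction n with
    | zero => exact LinearMap.ext fun z => app_one z
    | succ n ih => rw [pow_succ, pow_succ, ← ih]; exact LinearMap.ext fun z => app_mul _ _ z
  haveI : CharP (Module.End F (Fin 3 → F)) p :=
    charP_of_injective_algebraMap (algebraMap F _).injective p
  have hN : N ^ p = 0 := sub_one_pow_char (A := Module.End F (Fin 3 → F)) p (by
    rw [← happ, hbp]; exact LinearMap.ext fun z => app_one z)
  set P := (⊤ : Submodule F (Fin 3 → F)) ⊓ OrthTools.orth q₀ (Submodule.span F {l}) with hP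
  have hPinv : ∀ v ∈ P, N v ∈ P := fun v hv => by
    refine ⟨trivial, mem_orth_one.2 ?_⟩
    have h := mem_orth_one.1 hv.2
    show polar q₀ l (app b v - v) = 0
    rw [polar_sub_right, h, sub_zero]
    conv_lhs => rw [← hbl, polar_app, h]
  have hfin := finrank_inf_ge X.nd₀ (⊤ : Submodule F (Fin 3 → F)) l
  rw [finrank_top, Module.finrank_fin_fun, ← hP] at hfin
  obtain ⟨v₀, hv₀, hv₀0⟩ : ∃ v ∈ P, v ≠ 0 := by
    apply Submodule.exists_mem_ne_zero_of_ne_bot
    intro hbot
    rw [hbot, finrank_bot] at hfin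
    omega
  obtain ⟨v, hv, hv0, hNv⟩ : ∃ v ∈ P, v ≠ 0 ∧ N v = 0 := by
    have key : ∀ n, ∀ v ∈ P, v ≠ 0 → (N ^ n) v = 0 → ∃ w ∈ P, w ≠ 0 ∧ N w = 0 := by
      intro n
      induction n with
      | zero => intro v _ hv0 h; exact absurd h hv0
      | succ n ih =>
        intro v hv hv0 h
        by_cases hNv : N v = 0
        · exact ⟨v, hv, hv0, hNv⟩
        · exact ih (N v) (hPinv v hv) hNv (by rwa [pow_succ, Module.End.mul_apply] at h)
    exact key p v₀ hv₀ hv₀0 (by rw [hN, LinearMap.zero_apply])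
  refine eq_one_of_fix X.nd₀ X.two hb ?_
  have hfix : app b v = v := sub_eq_zero.1 hNv
  have hlv : polar q₀ l v = 0 := mem_orth_one.1 hv.2
  have hli : LinearIndependent F ![l, v] := by
    rw [LinearIndependent.pair_iff' (fun h => hl (by rw [h, QuadraticMap.map_zero]))]
    intro t ht
    rw [← ht, polar_smul_right, polar_self', smul_eq_mul] at hlv
    exact hv0 (by rw [← ht, (mul_eq_zero.1 hlv).resolve_right (mul_ne_zero X.two hl), zero_smul])
  have h1 : Submodule.span F (Set.range ![l, v]) ≤ fixS b := by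
    rw [Submodule.span_le]
    rintro _ ⟨i, rfl⟩
    fin_cases i
    · exact mem_fixS.2 hbl
    · exact mem_fixS.2 hfix
  have := Submodule.finrank_mono h1
  rw [finrank_span_eq_card hli, Fintype.card_fin] at this
  rw [Fintype.card_fin]
  omega

/-- The root group of the left factor. -/
noncomputable def leftRoot (e c : Fin 3 → F) (t : F) : O q := X.emb (eich q₀ e (t • c), 1)

/-- An element of a proper overgroup fixing a non-degenerate slice preserves the decomposition. -/
theorem fixSlice_le (hO : X.Over M) {l : Fin 3 → F} (hl : q₀ l ≠ 0) : X.fixSlice M l ≤ X.T := by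
  classical
  have hl0 : l ≠ 0 := fun h => hl (by rw [h, QuadraticMap.map_zero])
  obtain ⟨p, hp⟩ : ∃ p, CharP F p := CharP.exists F
  haveI : Fact p.Prime := ⟨CharP.char_is_prime F p⟩
  haveI : Finite (O q) := inferInstance
  obtain ⟨e, he, he0⟩ := X.exists_singular₀
  obtain ⟨e', c, E⟩ := X.exists_tri he he0
  have hec : ∀ t : F, polar q₀ e (t • c) = 0 := fun t => by rw [polar_smul_right, E.ec, smul_zero]
  have hE : ∀ t : F, t ≠ 0 → Tri q₀ e e' (t • c) := fun t ht => ⟨E.hyp, hec t,
    by rw [polar_smul_right, E.e'c, smul_zero],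
    by rw [QuadraticMap.map_smul, smul_eq_mul]; exact mul_ne_zero (mul_ne_zero ht ht) E.ne⟩
  set L := X.fixSlice M l with hL
  set u : F → O q := X.leftRoot e c with hu
  have hu_mul : ∀ s t, u s * u t = u (s + t) := fun s t => by
    rw [hu, leftRoot, leftRoot, leftRoot, ← map_mul, Prod.mk_mul_mk, one_mul, eich_add he (hec s) (hec t),
      add_smul]
  have hu0 : u 0 = 1 := by
    rw [hu, leftRoot, zero_smul, ← zero_smul F e, eich_smul_self he, Prod.mk_one_one, map_one]
  have huM : ∀ t, u t ∈ M := fun t => hO.le (X.emb_H (by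
    rw [map_one, X.χ_eq_one.2 (eich_mem_commutator X.nd₀ X.two he (hec t))]))
  have hu_fix : ∀ t x, app (u t) (X.τ x l) = X.τ (app (eich q₀ e (t • c)) x) l := fun t x => by
    rw [hu, leftRoot, X.app_emb, app_one]
  have hu_inv : ∀ t, (u t)⁻¹ = u (-t) := fun t => by
    refine inv_eq_of_mul_eq_one_right ?_
    rw [hu_mul, add_neg_cancel, hu0]
  have hnorm : ∀ t, ∀ g ∈ L, u t * g * (u t)⁻¹ ∈ L := fun t g hg => by
    refine ⟨M.mul_mem (M.mul_mem (huM t) hg.1) (M.inv_mem (huM t)), fun x => ?_⟩
    rw [hu_inv, app_mul, app_mul, hu_fix, hg.2, ← hu_fix, ← app_mul, hu_mul, add_neg_cancel, hu0, app_one]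
  have hnormalizer : ∀ t, u t ∈ Subgroup.normalizer (L : Set (O q)) := fun t => by
    rw [Subgroup.mem_normalizer_iff]
    refine fun g => ⟨hnorm t g, fun h => ?_⟩
    have h' := hnorm (-t) _ h
    rwa [← hu_inv, inv_inv, ← mul_assoc, ← mul_assoc, inv_mul_cancel, one_mul, inv_mul_cancel_right] at h'
  have hcent : ∀ t, t ≠ 0 → ∀ g ∈ L, g * u t = u t * g → g ∈ X.T := fun t ht g hg hc => by
    rw [← X.T_flip]
    refine X.flip.centraliser_root (Over.flip X hO) (hE t ht) hg.1 ?_
    rw [X.emb_flip]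
    exact hc
  have hu_pow : ∀ (n : ℕ) t, u t ^ n = u ((n : F) * t) := by
    intro n t
    induction n with
    | zero => rw [pow_zero, Nat.cast_zero, zero_mul, hu0]
    | succ n ih => rw [pow_succ, ih, hu_mul, Nat.cast_succ, add_mul, one_mul]
  have hu_p : ∀ t, u t ^ p = 1 := fun t => by rw [hu_pow, CharP.cast_eq_zero, zero_mul, hu0]
  -- `p` does not divide the order
  have hpL : ¬ p ∣ Nat.card L := by
    intro hdvd
    let R : Subgroup (O q) := Subgroup.zpowers (u 1)
    have hR : IsPGroup p R := by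
      intro x
      refine ⟨1, Subtype.ext ?_⟩
      obtain ⟨k, hk⟩ := Subgroup.mem_zpowers_iff.1 x.2
      rw [pow_one, Subgroup.coe_pow, Subgroup.coe_one, ← hk, ← zpow_natCast, ← _root_.zpow_mul, mul_comm, _root_.zpow_mul,
        zpow_natCast, hu_p, _root_.one_zpow]
    have hRN : R ≤ Subgroup.normalizer (L : Set (O q)) := Subgroup.zpowers_le.2 (hnormalizer 1)
    letI : MulAction R L :=
      { smul := fun r g => ⟨r.1 * g.1 * r.1⁻¹, (Subgroup.mem_normalizer_iff.1 (hRN r.2) g.1).1 g.2⟩
        one_smul := fun g => Subtype.ext (by show (1 : O q) * g.1 * (1 : O q)⁻¹ = g.1; group)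
        mul_smul := fun r s g => Subtype.ext (by
          show r.1 * s.1 * g.1 * (r.1 * s.1)⁻¹ = r.1 * (s.1 * g.1 * s.1⁻¹) * r.1⁻¹
          group) }
    let Cu : Subgroup (O q) := L ⊓ Subgroup.centralizer {u 1}
    have hfix : Nat.card (MulAction.fixedPoints R L) = Nat.card Cu := by
      refine Nat.card_congr
        { toFun := fun g => ⟨g.1.1, g.1.2, ?_⟩
          invFun := fun g => ⟨⟨g.1, g.2.1⟩, ?_⟩
          left_inv := fun g => rfl
          right_inv := fun g => rfl }
      · have h := congrArg Subtype.val (g.2 ⟨u 1, Subgroup.mem_zpowers _⟩)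
        change u 1 * g.1.1 * (u 1)⁻¹ = g.1.1 at h
        refine Subgroup.mem_centralizer_singleton_iff.2 ?_
        exact (mul_inv_eq_iff_eq_mul.1 h).symm
      · intro r
        refine Subtype.ext ?_
        show r.1 * g.1 * r.1⁻¹ = g.1
        obtain ⟨k, hk⟩ := Subgroup.mem_zpowers_iff.1 r.2
        have hg := Subgroup.mem_centralizer_singleton_iff.1 g.2.2
        rw [mul_inv_eq_iff_eq_mul, ← hk]
        exact ((Commute.symm hg).zpow_left k).eq
    have hmod := hR.card_modEq_card_fixedPoints L
    rw [hfix] at hmod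
    have hdvd' : p ∣ Nat.card Cu := Nat.modEq_zero_iff_dvd.1 (hmod.symm.trans (Nat.modEq_zero_iff_dvd.2 hdvd))
    obtain ⟨y, hy⟩ := exists_prime_orderOf_dvd_card' p hdvd'
    have hyT : y.1 ∈ X.T := hcent 1 one_ne_zero _ y.2.1 (Subgroup.mem_centralizer_singleton_iff.1 y.2.2)
    obtain ⟨b, hdb, hbl, hyb⟩ := X.fix_slice_T hl0 hyT (hO.omega y.2.1.1) y.2.1.2
    have hyp : y.1 ^ p = 1 := by
      rw [← Subgroup.coe_pow, ← hy, pow_orderOf_eq_one, Subgroup.coe_one]
    have hbp : b ^ p = 1 := by
      rw [hyb, ← map_pow, Prod.pow_mk, one_pow, ← map_one X.emb] at hyp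
      exact (X.emb_inj (map_one _) (map_one _) hyp).2
    have hy1 : y = 1 := Subtype.ext (by
      rw [hyb, X.eq_one_of_pow_char hl hdb hbl hbp, Prod.mk_one_one, map_one, Subgroup.coe_one])
    rw [hy1, orderOf_one] at hy
    exact (Fact.out : p.Prime).one_lt.ne hy
  -- the two cases
  have hp2 : p ≠ 2 := fun h => X.two (by subst h; exact_mod_cast CharP.cast_eq_zero F 2)
  have hsuff : p ≠ 3 → L ≤ Subgroup.centralizer {u 1} := fun hp3 => by
    have h5 : 5 ≤ p := by
      rcases (Fact.out : p.Prime).five_le_of_ne_two_of_ne_three hp2 hp3 with h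
      exact h
    have h3 : (app (u 1) - 1 : Module.End F (ι → F)) ^ 3 = 0 := by
      refine X.ext_τ fun a b => ?_
      have e0 : ∀ v, (app (u 1) - 1 : Module.End F (ι → F)) v = app (u 1) v - v := fun v => rfl
      have e1 : ∀ a, (app (u 1) - 1 : Module.End F (ι → F)) (X.τ a b) =
          X.τ (polar q₀ a e • c + (-(polar q₀ a c) - q₀ c * polar q₀ a e) • e) b := fun a => by
        rw [e0, hu, leftRoot, X.app_emb, app_one, one_smul, app_eich he E.ec, ← LinearMap.sub_apply, ← map_sub,
          add_assoc, add_sub_cancel_left]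
      rw [pow_succ, pow_succ, pow_one, Module.End.mul_apply, Module.End.mul_apply, e1, e1, e1, LinearMap.zero_apply]
      simp [polar_add_left, polar_smul_left, E.ec, polar_self' (Q := q₀) e, he, polar_comm (f := ⇑q₀) c e]
    rw [← Subgroup.subgroupOf_eq_top]
    refine CfsgLib.Fitting.eq_top_of_forall_sylow_le fun r hr hrd => ?_
    haveI := Fact.mk hr
    have hrp : r ≠ p := fun h => hpL (h ▸ hrd)
    have hcop : (Nat.card (Subgroup.zpowers (u 1))).Coprime (Nat.card L) := by
      rw [Nat.card_zpowers]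
      exact Nat.Coprime.coprime_dvd_left (orderOf_dvd_of_pow_eq_one (hu_p 1))
        ((Fact.out : p.Prime).coprime_iff_not_dvd.2 hpL)
    obtain ⟨P, hP⟩ := CfsgLib.Coprime.exists_invariant_sylow (Subgroup.zpowers (u 1)) L
      (Subgroup.zpowers_le.2 (hnormalizer 1)) hcop (Or.inl inferInstance) r
    refine ⟨P, fun g hg => ?_⟩
    rw [Subgroup.mem_subgroupOf, Subgroup.mem_centralizer_singleton_iff]
    by_contra hne
    let ρ : O q →* AddMonoid.End (ι → F) :=
      { toFun := fun g => (app g).toAddMonoidHom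
        map_one' := AddMonoidHom.ext fun z => app_one z
        map_mul' := fun g h => AddMonoidHom.ext fun z => app_mul g h z }
    have hρ : ∀ g z, ρ g z = app g z := fun g z => rfl
    have hA : ∀ z : ι → F, p • z = 0 := fun z => by
      funext i; rw [Pi.smul_apply, nsmul_eq_mul, CharP.cast_eq_zero, zero_mul, Pi.zero_apply]
    have h := CfsgLib.HallHigman.degree_bound_add hA ρ (u 1) 0 (by rw [zero_add, pow_one]; exact hu_p 1) hrp
      ((P : Subgroup L).map L.subtype) (P.isPGroup'.map _) (hP (Subgroup.mem_zpowers _))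
      ⟨g.1, ⟨g, hg, rfl⟩, fun hc => hne (ext_app fun z => by
        rw [pow_zero, pow_one] at hc
        have := DFunLike.congr_fun hc z
        rw [app_mul, app_mul]
        exact this)⟩
    have hρ3 : (ρ (u 1) - 1) ^ 3 = 0 := by
      refine AddMonoidHom.ext fun z => ?_
      exact LinearMap.congr_fun h3 z
    rcases h with h | ⟨n₀, d, h1, h2, -, -, -, h6⟩
    · exact h 3 (by rw [zero_add, pow_one]; omega) hρ3
    · obtain rfl : n₀ = 1 := by omega
      exact h6 3 (by simp only [zero_add, tsub_self, pow_zero, pow_one, one_mul]; omega) hρ3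
  by_cases hp3 : p = 3
  · let U : Subgroup (O q) :=
      { carrier := Set.range u
        one_mem' := ⟨0, hu0⟩
        mul_mem' := fun {a b} ha hb => by
          obtain ⟨s, rfl⟩ := ha
          obtain ⟨t, rfl⟩ := hb
          exact ⟨s + t, (hu_mul s t).symm⟩
        inv_mem' := fun {a} ha => by
          obtain ⟨s, rfl⟩ := ha
          exact ⟨-s, (hu_inv s).symm⟩ }
    have huinj : Function.Injective u := fun s t h => by
      have := congrArg (fun g => X.C l (app g (X.τ c l))) h
      simp only [hu_fix, X.C_τ] at this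
      have h2 := congrArg (fun y => polar q₀ y e') (smul_right_injective _ (by
        rw [polar_self']; exact mul_ne_zero X.two hl) this)
      simp only [app_eich he (hec _), polar_add_left, polar_smul_left, polar_smul_right, polar_self', E.hyp.pair,
        polar_comm (f := ⇑q₀) c e, polar_comm (f := ⇑q₀) c e', E.ec, E.e'c, smul_eq_mul] at h2
      have := mul_ne_zero X.two E.ne
      refine mul_right_cancel₀ this ?_
      linear_combination -h2
    have hcard : Nat.card U = Fintype.card F := by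
      rw [← Nat.card_eq_fintype_card]
      exact (Nat.card_congr (Equiv.ofInjective u huinj)).symm
    have hUel : Cfsg.IsElementaryAbelian p U := by
      refine ⟨⟨⟨fun a b => Subtype.ext ?_⟩⟩, ?_⟩
      · obtain ⟨s, hs⟩ := a.2
        obtain ⟨t, ht⟩ := b.2
        show a.1 * b.1 = b.1 * a.1
        rw [← hs, ← ht, hu_mul, hu_mul, add_comm]
      · rintro _ ⟨t, rfl⟩
        exact hu_p t
    have hU1 : U ≠ ⊥ := fun h => by
      have := X.five
      rw [← hcard, h, Subgroup.card_bot] at this
      omega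
    have hXU : U ≤ Subgroup.normalizer (L : Set (O q)) := by
      rintro _ ⟨t, rfl⟩
      exact hnormalizer t
    rw [← CfsgLib.Coprime39.eq_hyperCent hUel hU1
      ((Fact.out : p.Prime).coprime_iff_not_dvd.2 hpL).symm hXU, CfsgLib.Coprime39.hyperCent, iSup_le_iff]
    rintro ⟨B, hBU, hBi⟩
    obtain ⟨b, hbB, hb1⟩ : ∃ b ∈ B, b ≠ 1 := by
      by_contra hB
      push Not at hB
      rw [(Subgroup.eq_bot_iff_forall B).2 hB, Subgroup.relIndex_bot_left, hcard, hp3] at hBi
      have := X.five
      omega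
    obtain ⟨t, rfl⟩ := hBU hbB
    have ht : t ≠ 0 := fun h => hb1 (by rw [h, hu0])
    rintro g ⟨hgL, hgB⟩
    exact hcent t ht g hgL ((Subgroup.mem_centralizer_iff.1 hgB _ hbB).symm)
  · intro g hg
    exact hcent 1 one_ne_zero g hg (Subgroup.mem_centralizer_singleton_iff.1 (hsuff hp3 hg))

/-- An element of a proper overgroup commuting with a right pure involution preserves the decomposition. -/
theorem centraliser_right (hO : X.Over M) {b : O q₀} (hb : Flip b) {g : O q} (hg : g ∈ M)
    (hc : g * X.emb (1, b) = X.emb (1, b) * g) : g ∈ X.T := by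
  obtain ⟨l, hl, rfl⟩ := X.exists_axis hb
  have hl2 := mul_ne_zero X.two hl
  have hz : ∀ x, app (X.emb (1, flp l)) (X.τ x l) = X.τ x l := fun x => by
    rw [X.app_emb, app_one, flp_self hl]
  have hfix : ∀ x, app g (X.τ x l) = X.τ ((2 * q₀ l)⁻¹ • X.C l (app g (X.τ x l))) l := by
    intro x
    have hzy : app (X.emb (1, flp l)) (app g (X.τ x l)) = app g (X.τ x l) := by
      rw [← app_mul, ← hc, app_mul, hz]
    refine sub_eq_zero.1 (X.eq_zero fun φ => ?_)
    set y := app g (X.τ x l)
    have hd : φ = (φ - ((2 * q₀ l)⁻¹ * polar q₀ φ l) • l) + ((2 * q₀ l)⁻¹ * polar q₀ φ l) • l := by abel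
    have hperp : polar q₀ (φ - ((2 * q₀ l)⁻¹ * polar q₀ φ l) • l) l = 0 := by
      rw [polar_sub_left, polar_smul_left, polar_self', smul_eq_mul, mul_right_comm, inv_mul_cancel₀ hl2,
        one_mul, sub_self]
    have h0 : X.C (φ - ((2 * q₀ l)⁻¹ * polar q₀ φ l) • l) y = 0 := by
      set φ' := φ - ((2 * q₀ l)⁻¹ * polar q₀ φ l) • l
      have h := congrArg (X.C φ') hzy
      rw [X.C_emb, Flip.inv (flip_flp X.two X.nd₀ hl), flp_perp hperp, app_one,
        show (-φ') = (-1 : F) • φ' by rw [neg_one_smul], X.C_smul, neg_one_smul] at h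
      exact (smul_eq_zero.1 (show (2 : F) • X.C φ' y = 0 by
        rw [two_smul]; nth_rewrite 1 [← h]; exact neg_add_cancel _)).resolve_left X.two
    rw [map_sub, X.C_τ, smul_smul, sub_eq_zero]
    conv_lhs => rw [hd, X.C_add, h0, zero_add, X.C_smul]
    rw [polar_comm, mul_comm]
  let φ : (Fin 3 → F) →ₗ[F] (Fin 3 → F) :=
    (2 * q₀ l)⁻¹ • (X.C l).comp ((app g).comp ((LinearMap.flip X.τ) l))
  have hφ : ∀ x, app g (X.τ x l) = X.τ (φ x) l := hfix
  have hiso : ∀ x y, polar q₀ (φ x) (φ y) = polar q₀ x y := fun x y => by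
    have h := polar_app g (X.τ x l) (X.τ y l)
    rw [hφ, hφ, X.polar_τ, X.polar_τ] at h
    exact mul_right_cancel₀ (by rw [polar_self']; exact hl2) h
  have hφi : Function.Injective φ := fun x y h => by
    refine sub_eq_zero.1 (eq_zero_of_polar X.nd₀ fun z => ?_)
    rw [← hiso, map_sub, h, sub_self, polar_zero_left]
  have hφq : ∀ x, q₀ (φ x) = q₀ x := fun x => by
    have := hiso x x
    rw [polar_self', polar_self'] at this
    exact mul_left_cancel₀ X.two this
  set a : O q₀ := CfsgLib.OrthOmega.ofEquiv (LinearEquiv.ofInjectiveEndo φ hφi) fun x => hφq x with ha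
  have haφ : ∀ x, app a x = φ x := fun x =>
    CfsgLib.OrthOmega.app_ofEquiv (Q := q₀) (LinearEquiv.ofInjectiveEndo φ hφi) (fun x => hφq x) x
  let S : Subgroup (O q₀) :=
    { carrier := {u | app u l = l}
      one_mem' := app_one _
      mul_mem' := fun {u v} (hu : app u l = l) (hv : app v l = l) => by
        show app (u * v) l = l
        rw [app_mul, hv, hu]
      inv_mem' := fun {u} (hu : app u l = l) => by
        show app u⁻¹ l = l
        conv_lhs => rw [← hu, app_inv_app] }
  have hdim := finrank_inf_ge X.nd₀ (⊤ : Submodule F (Fin 3 → F)) l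
  rw [finrank_top, Module.finrank_fin_fun] at hdim
  obtain ⟨u, hu, hχ⟩ := surj_of_plane X.two S (nondeg_inf X.two (nondeg_top X.nd₀) trivial hl) (by omega)
    (fun v hv _ => app_refl_of_ortho (mem_orth_one.1 hv.2)) X.d X.d_spec (X.χ a)
  have hu' : app u l = l := hu
  have hk : X.emb (a, u) ∈ M := hO.le (X.emb_H hχ.symm)
  have hm : (X.emb (a, u))⁻¹ * g ∈ X.fixSlice M l := by
    refine ⟨M.mul_mem (M.inv_mem hk) hg, fun x => ?_⟩
    rw [app_mul, hφ, ← haφ, ← hu', ← X.app_emb (a, u), hu', app_inv_app]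
  rw [show g = X.emb (a, u) * ((X.emb (a, u))⁻¹ * g) by rw [mul_inv_cancel_left]]
  exact X.T.mul_mem (X.emb_mem_T _) (X.fixSlice_le hO hl hm)

/-- An element of a proper overgroup commuting with a pure involution preserves the decomposition. -/
theorem centraliser_pure (hO : X.Over M) {z : O q} (hz : X.Pure z) {g : O q} (hg : g ∈ M)
    (hc : g * z = z * g) : g ∈ X.T := by
  obtain ⟨a, ha, -, rfl | rfl⟩ := hz
  · rw [← X.T_flip]
    exact X.flip.centraliser_right (Over.flip X hO) ha hg (by rw [X.emb_flip]; exact hc)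
  · exact X.centraliser_right hO ha hg hc

end Setting

end CfsgLib.TensorThree63
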