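import Cfsg.Agent.Lib.TensorThree63.Inv

/-!
A proper overgroup of the wreathed tensor stabiliser contains no isometry which is the identity modulo a
singular slice.
-/

set_option autoImplicit false
set_option linter.unusedSectionVars false
set_option linter.unusedSimpArgs false

namespace CfsgLib.TensorThree63

open Matrix QuadraticMap CfsgLib.Orth
open CfsgLib.GeomClasses (OrthTools.orth OrthTools.mem_orth OrthEich.Full)
open CfsgLib.TensorMax63 (toVec polar_toVec ext_polar Hyp mid mem_mid exists_hyp skew skew_apply IsSkew isSkew_skew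
  Nondeg nondeg_top nondeg_inf finrank_inf_ge exists_aniso mem_orth_one exists_notMem exists_dual
  eich_mem_commutator)

variable {ι : Type} [Fintype ι] [DecidableEq ι] {F : Type*} [Field F] [Fintype F] [DecidableEq F]
  {q : QuadraticForm F (ι → F)} {q₀ : QuadraticForm F (Fin 3 → F)}

/-- A hyperbolic triple. -/
structure Tri (q₀ : QuadraticForm F (Fin 3 → F)) (e e' c : Fin 3 → F) : Prop where
  hyp : Hyp q₀ e e'
  ec : polar q₀ e c = 0
  e'c : polar q₀ e' c = 0
  ne : q₀ c ≠ 0

variable (X : Setting q q₀)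

namespace Setting

theorem Tri.symm {e e' c : Fin 3 → F} (E : Tri q₀ e e' c) : Tri q₀ e' e c :=
  ⟨⟨E.hyp.q₂, E.hyp.q₁, E.hyp.pair'⟩, E.e'c, E.ec, E.ne⟩

include X in
theorem exists_tri {e : Fin 3 → F} (he : q₀ e = 0) (he0 : e ≠ 0) : ∃ e' c, Tri q₀ e e' c := by
  obtain ⟨e', P⟩ := exists_hyp X.nd₀ he he0
  have := P.finrank_mid X.nd₀
  rw [Fintype.card_fin] at this
  obtain ⟨c, hc, hqc⟩ := exists_aniso (P.nondeg_mid X.nd₀) fun h => by rw [h, finrank_bot] at this; omega
  exact ⟨e', c, P, (mem_mid.1 hc).1, (mem_mid.1 hc).2, hqc⟩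

include X in
theorem exists_singular₀ : ∃ e, q₀ e = 0 ∧ e ≠ 0 := by
  obtain ⟨e, -, he0, he⟩ := CfsgLib.GeomClasses.OrthTools.exists_singular X.nd₀ ⊤
    (by rw [finrank_top, Module.finrank_fin_fun])
  exact ⟨e, he, he0⟩

include X in
theorem Tri.decomp {e e' c : Fin 3 → F} (E : Tri q₀ e e' c) (y : Fin 3 → F) :
    y = polar q₀ e' y • e + polar q₀ e y • e' + ((2 * q₀ c)⁻¹ * polar q₀ c y) • c := by
  have hce : polar q₀ c e = 0 := by rw [polar_comm]; exact E.ec
  have hce' : polar q₀ c e' = 0 := by rw [polar_comm]; exact E.e'c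
  have hne := mul_ne_zero X.two E.ne
  have hli : LinearIndependent F ![e, e', c] := by
    rw [Fintype.linearIndependent_iff]
    intro g hg
    simp only [Fin.sum_univ_three, Matrix.cons_val_zero, Matrix.cons_val_one, Matrix.cons_val_two,
      Matrix.head_cons, Matrix.tail_cons] at hg
    have h1 := congrArg (polar q₀ e') hg
    have h2 := congrArg (polar q₀ e) hg
    have h3 := congrArg (polar q₀ c) hg
    simp only [polar_add_right, polar_smul_right, polar_zero_right, E.hyp.self₁, E.hyp.self₂, E.hyp.pair,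
      E.hyp.pair', E.ec, E.e'c, hce, hce', polar_self', smul_eq_mul, mul_zero, mul_one, add_zero, zero_add] at h1 h2 h3
    intro i
    fin_cases i
    · exact h1
    · exact h2
    · exact (mul_eq_zero.1 h3).resolve_right hne
  have hy : y ∈ Submodule.span F (Set.range ![e, e', c]) := by
    rw [hli.span_eq_top_of_card_eq_finrank' (by simp)]
    trivial
  obtain ⟨g, hg⟩ := (Submodule.mem_span_range_iff_exists_fun F).1 hy
  simp only [Fin.sum_univ_three, Matrix.cons_val_zero, Matrix.cons_val_one, Matrix.cons_val_two,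
    Matrix.head_cons, Matrix.tail_cons] at hg
  rw [← hg]
  simp only [polar_add_right, polar_smul_right, E.hyp.self₁, E.hyp.self₂, E.hyp.pair, E.hyp.pair', E.ec, E.e'c,
    hce, hce', polar_self', smul_eq_mul, mul_zero, mul_one, add_zero, zero_add]
  rw [mul_comm (g 2) (2 * q₀ c), inv_mul_cancel_left₀ hne]

/-- `z ↦ z + K(C_w z) ⊗ w`. -/
noncomputable def zmap (w : Fin 3 → F) (K : (Fin 3 → F) →ₗ[F] (Fin 3 → F)) : (ι → F) →ₗ[F] (ι → F) :=
  LinearMap.id + ((LinearMap.flip X.τ) w).comp (K.comp (X.C w))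

theorem zmap_apply (w : Fin 3 → F) (K : (Fin 3 → F) →ₗ[F] (Fin 3 → F)) (z : ι → F) :
    X.zmap w K z = z + X.τ (K (X.C w z)) w := rfl

theorem zmap_zmap {w : Fin 3 → F} (hw : q₀ w = 0) (K L : (Fin 3 → F) →ₗ[F] (Fin 3 → F)) (z : ι → F) :
    X.zmap w K (X.zmap w L z) = X.zmap w (K + L) z := by
  rw [zmap_apply, zmap_apply, zmap_apply, map_add, X.C_τ, polar_self', hw, mul_zero, zero_smul, add_zero,
    LinearMap.add_apply, map_add, LinearMap.add_apply]
  abel

open scoped Classical in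
/-- The isometry of a skew map at a singular slice. -/
noncomputable def zel (w : Fin 3 → F) (K : (Fin 3 → F) →ₗ[F] (Fin 3 → F)) : O q :=
  if h : q₀ w = 0 ∧ IsSkew q₀ K then
    mkO (X.zmap w K) (X.zmap w (-K))
      (LinearMap.ext fun z => by
        rw [LinearMap.comp_apply, X.zmap_zmap h.1, add_neg_cancel, zmap_apply]; simp)
      (LinearMap.ext fun z => by
        rw [LinearMap.comp_apply, X.zmap_zmap h.1, neg_add_cancel, zmap_apply]; simp)
      (fun z => by
        rw [zmap_apply, QuadraticMap.map_add ⇑q, X.q_τ_singular _ h.1, add_zero, ← X.polar_C]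
        have := h.2 (X.C w z) (X.C w z)
        rw [polar_comm (f := ⇑q₀) (K (X.C w z)), ← two_mul] at this
        rw [(mul_eq_zero.1 this).resolve_left X.two, add_zero])
  else 1

theorem app_zel {w : Fin 3 → F} (hw : q₀ w = 0) {K : (Fin 3 → F) →ₗ[F] (Fin 3 → F)} (hK : IsSkew q₀ K)
    (z : ι → F) : app (X.zel w K) z = z + X.τ (K (X.C w z)) w := by
  rw [zel, dif_pos ⟨hw, hK⟩, app_mkO, zmap_apply]

theorem eich_slice {w : Fin 3 → F} (hw : q₀ w = 0) (a a' : Fin 3 → F) :
    eich q (X.τ a w) (X.τ a' w) = X.zel w (skew q₀ a a') := by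
  have h : polar q (X.τ a w) (X.τ a' w) = 0 := by rw [X.polar_τ, polar_self', hw, mul_zero, mul_zero]
  refine ext_app fun z => ?_
  rw [X.app_zel hw (isSkew_skew a a'), app_eich (X.q_τ_singular a hw) h, ← X.polar_C, ← X.polar_C, skew_apply,
    map_sub, map_smul, map_smul, LinearMap.sub_apply, LinearMap.smul_apply, LinearMap.smul_apply,
    X.q_τ_singular a' hw, polar_comm (f := ⇑q₀) a, polar_comm (f := ⇑q₀) a']
  module

/-- The isometries which are the identity modulo the slice of `w` and on it. -/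
def InZ (w : Fin 3 → F) (y : O q) : Prop :=
  (∀ x, app y (X.τ x w) = X.τ x w) ∧ ∀ z, ∃ x, app y z - z = X.τ x w

theorem exists_zel {w w' : Fin 3 → F} (P : Hyp q₀ w w') {y : O q} (hy : X.InZ w y) :
    ∃ K, IsSkew q₀ K ∧ y = X.zel w K := by
  let xf : (ι → F) →ₗ[F] (Fin 3 → F) := (X.C w').comp (app y - LinearMap.id)
  have hx : ∀ z, app y z = z + X.τ (xf z) w := by
    intro z
    obtain ⟨x, hx⟩ := hy.2 z
    have : xf z = x := by
      show X.C w' (app y z - z) = x
      rw [hx, X.C_τ, P.pair, one_smul]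
    rw [this, ← hx, add_sub_cancel]
  let K : (Fin 3 → F) →ₗ[F] (Fin 3 → F) := xf.comp ((LinearMap.flip X.τ) w')
  have hiso : ∀ z a, polar q₀ (xf z) a + polar q₀ (X.C w z) (K a) = 0 := by
    intro z a
    have h := polar_app y z (X.τ a w')
    rw [hx z, hx (X.τ a w'), polar_add_left, polar_add_right, polar_add_right, X.polar_τ, X.polar_τ, P.pair,
      P.self₁, mul_one, mul_zero, add_zero, ← X.polar_C w z] at h
    show polar q₀ (xf z) a + polar q₀ (X.C w z) (xf (X.τ a w')) = 0
    linear_combination h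
  have hK : IsSkew q₀ K := by
    intro a a'
    have h := hiso (X.τ a w') a'
    rw [X.C_τ, P.pair', one_smul] at h
    exact h
  refine ⟨K, hK, ext_app fun z => ?_⟩
  have hxz : xf z = K (X.C w z) := ext_polar X.nd₀ fun a => by
    linear_combination hiso z a - hK (X.C w z) a
  rw [X.app_zel P.q₁ hK, hx, hxz]

/-- A proper overgroup of the wreathed tensor stabiliser. -/
structure Over (M : Subgroup (O q)) : Prop where
  le : X.H ≤ M
  omega : M ≤ commutator (O q)
  proper : ¬ commutator (O q) ≤ M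
  swap : ∃ t ∈ X.T, t * X.σ ∈ M

variable {M : Subgroup (O q)}

theorem flip_σ : X.flip.σ = X.σ :=
  X.ext_O fun a b => by
    conv_lhs => rw [← X.flip_τ b a, X.flip.app_σ, X.flip_τ]
    rw [X.app_σ]

theorem Over.flip (hO : X.Over M) : X.flip.Over M :=
  ⟨X.H_flip ▸ hO.le, hO.omega, hO.proper, by rw [X.T_flip, X.flip_σ]; exact hO.swap⟩

/-- All root elements of a slice. -/
def SliceFull (M : Subgroup (O q)) (w : Fin 3 → F) : Prop :=
  ∀ a a', eich q (X.τ a w) (X.τ a' w) ∈ M

theorem app_zel_add {w : Fin 3 → F} (hw : q₀ w = 0) {K L : (Fin 3 → F) →ₗ[F] (Fin 3 → F)} (hK : IsSkew q₀ K)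
    (hL : IsSkew q₀ L) : X.zel w (K + L) = X.zel w K * X.zel w L := by
  have hs : IsSkew q₀ (K + L) := fun x y => by
    rw [LinearMap.add_apply, LinearMap.add_apply, polar_add_left, polar_add_right]
    linear_combination hK x y + hL x y
  refine ext_app fun z => ?_
  rw [app_mul, X.app_zel hw hL, X.app_zel hw hK, X.app_zel hw hs, ← X.zmap_apply, ← X.zmap_apply,
    ← X.zmap_apply, X.zmap_zmap hw]

theorem conj_zel {w : Fin 3 → F} (hw : q₀ w = 0) {K : (Fin 3 → F) →ₗ[F] (Fin 3 → F)} (hK : IsSkew q₀ K)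
    (a : O q₀) : IsSkew q₀ ((app a).comp (K.comp (app a⁻¹))) ∧
      X.zel w ((app a).comp (K.comp (app a⁻¹))) = X.emb (a, 1) * X.zel w K * (X.emb (a, 1))⁻¹ := by
  have hs : IsSkew q₀ ((app a).comp (K.comp (app a⁻¹))) := fun x y => by
    simp only [LinearMap.comp_apply]
    have h1 : polar q₀ (app a (K (app a⁻¹ x))) y = polar q₀ (K (app a⁻¹ x)) (app a⁻¹ y) := by
      conv_lhs => rw [← app_app_inv a y, polar_app]
    have h2 : polar q₀ x (app a (K (app a⁻¹ y))) = polar q₀ (app a⁻¹ x) (K (app a⁻¹ y)) := by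
      conv_lhs => rw [← app_app_inv a x, polar_app]
    rw [h1, h2]
    exact hK (app a⁻¹ x) (app a⁻¹ y)
  refine ⟨hs, ext_app fun z => ?_⟩
  rw [app_mul, app_mul, X.app_zel hw hK, map_add, app_app_inv, X.app_emb, X.app_zel hw hs, ← map_inv, X.C_emb]
  simp

/-- The maps whose isometries lie in `M`, as an additive group. -/
def zGroup (M : Subgroup (O q)) {w : Fin 3 → F} (hw : q₀ w = 0) : AddSubgroup ((Fin 3 → F) →ₗ[F] (Fin 3 → F)) where
  carrier := {K | IsSkew q₀ K ∧ X.zel w K ∈ M}
  zero_mem' := by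
    refine ⟨fun x y => by simp, ?_⟩
    rw [show X.zel w 0 = 1 from ext_app fun z => by rw [X.app_zel hw (fun x y => by simp), app_one]; simp]
    exact M.one_mem
  add_mem' {K L} hK hL := ⟨fun x y => by
      rw [LinearMap.add_apply, LinearMap.add_apply, polar_add_left, polar_add_right]
      linear_combination hK.1 x y + hL.1 x y, by
    rw [X.app_zel_add hw hK.1 hL.1]; exact M.mul_mem hK.2 hL.2⟩
  neg_mem' {K} hK := by
    have hs : IsSkew q₀ (-K) := fun x y => by
      rw [LinearMap.neg_apply, LinearMap.neg_apply, polar_neg_left, polar_neg_right]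
      linear_combination -hK.1 x y
    refine ⟨hs, ?_⟩
    rw [show X.zel w (-K) = (X.zel w K)⁻¹ from eq_inv_of_mul_eq_one_left (by
      rw [← X.app_zel_add hw hs hK.1, neg_add_cancel]
      exact ext_app fun z => by rw [X.app_zel hw (fun x y => by simp), app_one]; simp)]
    exact M.inv_mem hK.2

theorem zGroup_conj (hM : X.H ≤ M) {w : Fin 3 → F} (hw : q₀ w = 0) {K : (Fin 3 → F) →ₗ[F] (Fin 3 → F)}
    (hK : K ∈ X.zGroup M hw) {a : O q₀} (ha : a ∈ commutator (O q₀)) :
    (app a).comp (K.comp (app a⁻¹)) ∈ X.zGroup M hw := by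
  obtain ⟨hs, he⟩ := X.conj_zel hw hK.1 a
  refine ⟨hs, ?_⟩
  have hm : X.emb (a, 1) ∈ M := hM (X.emb_H (by rw [X.χ_eq_one.2 ha, map_one]))
  rw [he]
  exact M.mul_mem (M.mul_mem hm hK.2) (M.inv_mem hm)

theorem skew_conj (g : O q₀) (a b : Fin 3 → F) :
    (app g).comp ((skew q₀ a b).comp (app g⁻¹)) = skew q₀ (app g a) (app g b) := by
  refine LinearMap.ext fun x => ?_
  have h : ∀ c, polar q₀ c (app g⁻¹ x) = polar q₀ (app g c) x := fun c => by
    rw [← polar_app g, app_app_inv]
  simp [skew_apply, h]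

/-- The conjugates of the three basic skew maps under a root element. -/
theorem root_conj {e e' c : Fin 3 → F} (E : Tri q₀ e e' c) (b₁ b₂ b₃ t : F) :
    (app (eich q₀ e (t • c))).comp ((b₁ • skew q₀ e c + b₂ • skew q₀ e e' + b₃ • skew q₀ c e').comp
        (app (eich q₀ e (t • c))⁻¹)) =
      (b₁ + t * b₂ - t * t * q₀ c * b₃) • skew q₀ e c + (b₂ - 2 * t * q₀ c * b₃) • skew q₀ e e'
        + b₃ • skew q₀ c e' := by
  have hb : polar q₀ e (t • c) = 0 := by rw [polar_smul_right, E.ec, smul_zero]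
  have hce : polar q₀ c e = 0 := by rw [polar_comm]; exact E.ec
  set u := eich q₀ e (t • c)
  have ue : app u e = e := by
    rw [app_eich E.hyp.q₁ hb, E.hyp.self₁, hb]; simp
  have uc : app u c = c - (2 * t * q₀ c) • e := by
    rw [app_eich E.hyp.q₁ hb, hce, polar_smul_right, polar_self']
    simp only [smul_eq_mul]
    module
  have ue' : app u e' = e' + t • c - (t * t * q₀ c) • e := by
    rw [app_eich E.hyp.q₁ hb, E.hyp.pair', polar_smul_right, E.e'c, QuadraticMap.map_smul]
    simp only [smul_eq_mul]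
    module
  simp only [LinearMap.comp_add, LinearMap.add_comp, LinearMap.comp_smul, LinearMap.smul_comp]
  rw [skew_conj, skew_conj, skew_conj, ue, uc, ue']
  refine LinearMap.ext fun x => ?_
  simp only [LinearMap.add_apply, LinearMap.smul_apply, skew_apply, polar_add_left, polar_sub_left, polar_smul_left,
    smul_eq_mul]
  module

include X in
theorem skew_eq {e e' c : Fin 3 → F} (E : Tri q₀ e e' c) {K : (Fin 3 → F) →ₗ[F] (Fin 3 → F)} (hK : IsSkew q₀ K) :
    ∃ b₁ b₂ b₃ : F, K = b₁ • skew q₀ e c + b₂ • skew q₀ e e' + b₃ • skew q₀ c e' := by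
  refine ⟨(2 * q₀ c)⁻¹ * polar q₀ c (K e'), -polar q₀ e' (K e), -((2 * q₀ c)⁻¹ * polar q₀ c (K e)), ?_⟩
  have hce : polar q₀ c e = 0 := by rw [polar_comm]; exact E.ec
  have hce' : polar q₀ c e' = 0 := by rw [polar_comm]; exact E.e'c
  have hne := mul_ne_zero X.two E.ne
  have hsk : ∀ x y, polar q₀ y (K x) = -polar q₀ x (K y) := fun x y => by
    rw [polar_comm]; exact eq_neg_of_add_eq_zero_left (hK x y)
  have hd : ∀ x, polar q₀ x (K x) = 0 := fun x => by
    have h := hsk x x
    exact (mul_eq_zero.1 (show (2 : F) * polar q₀ x (K x) = 0 by linear_combination h)).resolve_left X.two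
  have hext : ∀ (f g : (Fin 3 → F) →ₗ[F] (Fin 3 → F)), f e = g e → f e' = g e' → f c = g c → f = g :=
    fun f g h1 h2 h3 => LinearMap.ext fun y => by
      rw [Tri.decomp X E y]; simp only [map_add, map_smul, h1, h2, h3]
  refine hext _ _ ?_ ?_ ?_ <;>
    simp only [LinearMap.add_apply, LinearMap.smul_apply, skew_apply, E.hyp.self₁, E.hyp.self₂, E.hyp.pair,
      E.hyp.pair', E.ec, E.e'c, hce, hce', polar_self', zero_smul, sub_zero, zero_sub, smul_zero, smul_neg]
  · conv_lhs => rw [Tri.decomp X E (K e), hd e]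
    module
  · conv_lhs => rw [Tri.decomp X E (K e'), hd e', hsk e' e]
    module
  · conv_lhs => rw [Tri.decomp X E (K c), hd c, hsk c e, hsk c e']
    have := E.ne
    have := X.two
    match_scalars <;> field_simp <;> ring

theorem root_line (hM : X.H ≤ M) {w : Fin 3 → F} (hw : q₀ w = 0) {K : (Fin 3 → F) →ₗ[F] (Fin 3 → F)}
    (hK : K ∈ X.zGroup M hw) {e e' c : Fin 3 → F} (E : Tri q₀ e e' c) {b₁ b₂ b₃ : F}
    (hb : K = b₁ • skew q₀ e c + b₂ • skew q₀ e e' + b₃ • skew q₀ c e') (h : b₂ ≠ 0 ∨ b₃ ≠ 0) (s : F) :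
    s • skew q₀ e c ∈ X.zGroup M hw := by
  have hu : ∀ t : F, eich q₀ e (t • c) ∈ commutator (O q₀) := fun t =>
    eich_mem_commutator X.nd₀ X.two E.hyp.q₁ (by rw [polar_smul_right, E.ec, smul_zero])
  have hc : ∀ t : F, (b₁ + t * b₂ - t * t * q₀ c * b₃) • skew q₀ e c + (b₂ - 2 * t * q₀ c * b₃) • skew q₀ e e'
      + b₃ • skew q₀ c e' ∈ X.zGroup M hw := fun t => by
    rw [← root_conj E, ← hb]; exact X.zGroup_conj hM hw hK (hu t)
  rcases eq_or_ne b₃ 0 with h3 | h3
  · have hb₂ := h.resolve_right (by simp [h3])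
    have := sub_mem (hc (s / b₂)) hK
    convert this using 1
    rw [hb, h3]
    match_scalars <;> field_simp <;> ring
  · have key : ∀ t : F, (-2 * t * t * q₀ c * b₃) • skew q₀ e c ∈ X.zGroup M hw := fun t => by
      have := sub_mem (sub_mem (add_mem (hc t) (hc (-t))) hK) hK
      convert this using 1
      rw [hb]
      match_scalars <;> ring
    obtain ⟨x, y, hxy⟩ := exists_binary X.two (one_ne_zero : (1 : F) ≠ 0) (one_ne_zero : (1 : F) ≠ 0)
      (-s / (2 * q₀ c * b₃))
    have := add_mem (key x) (key y)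
    convert this using 1
    rw [← add_smul]
    congr 1
    have := mul_ne_zero (mul_ne_zero X.two E.ne) h3
    rw [eq_div_iff this] at hxy
    linear_combination hxy

theorem sliceFull_of_ne (hM : X.H ≤ M) {w : Fin 3 → F} (hw : q₀ w = 0) {K : (Fin 3 → F) →ₗ[F] (Fin 3 → F)}
    (hK : K ∈ X.zGroup M hw) (hK0 : K ≠ 0) : X.SliceFull M w := by
  obtain ⟨e, he, he0⟩ := X.exists_singular₀
  obtain ⟨e', c, E⟩ := X.exists_tri he he0
  have E' := Tri.symm E
  have hsw : ∀ a b : Fin 3 → F, skew q₀ a b = -skew q₀ b a := fun a b =>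
    LinearMap.ext fun x => by simp [skew_apply]
  have h1 : ∀ s : F, s • skew q₀ e c ∈ X.zGroup M hw := by
    obtain ⟨b₁, b₂, b₃, hb⟩ := X.skew_eq E hK.1
    by_cases h : b₂ ≠ 0 ∨ b₃ ≠ 0
    · exact X.root_line hM hw hK E hb h
    push Not at h
    have hb₁ : b₁ ≠ 0 := fun h0 => hK0 (by rw [hb, h0, h.1, h.2]; simp)
    have hk : ∀ s : F, s • skew q₀ e' c ∈ X.zGroup M hw :=
      X.root_line hM hw hK E' (b₁ := 0) (b₂ := 0) (b₃ := -b₁) (by rw [hb, h.1, h.2, hsw c e]; module)
        (Or.inr (neg_ne_zero.2 hb₁))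
    exact X.root_line hM hw (hk 1) E (b₁ := 0) (b₂ := 0) (b₃ := -1) (by rw [hsw e' c]; module)
      (Or.inr (by simp))
  have h3 : ∀ s : F, s • skew q₀ c e' ∈ X.zGroup M hw := fun s => by
    have := X.root_line hM hw (h1 1) E' (b₁ := 0) (b₂ := 0) (b₃ := -1) (by rw [hsw c e]; module)
      (Or.inr (by simp)) (-s)
    rwa [hsw e' c, smul_neg, ← neg_smul, neg_neg] at this
  have h2 : ∀ s : F, s • skew q₀ e e' ∈ X.zGroup M hw := fun s => by
    set t := -s / (2 * q₀ c) with ht
    have h := sub_mem (X.zGroup_conj hM hw (h3 1)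
      (eich_mem_commutator X.nd₀ X.two E.hyp.q₁ (a := t • c) (by rw [polar_smul_right, E.ec, smul_zero]))) (h3 1)
    have hr := root_conj E 0 0 1 t
    simp only [zero_smul, zero_add, one_smul, mul_zero, sub_zero, mul_one, zero_sub] at hr h
    rw [hr] at h
    have := add_mem h (h1 (t * t * q₀ c))
    convert this using 1
    have := E.ne
    have := X.two
    match_scalars <;> (try simp only [ht]) <;> field_simp <;> ring
  intro a a'
  rw [X.eich_slice hw]
  obtain ⟨b₁, b₂, b₃, hb⟩ := X.skew_eq E (isSkew_skew a a')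
  rw [hb]
  exact (add_mem (add_mem (h1 b₁) (h2 b₂)) (h3 b₃)).2

theorem sliceFull_smul {w : Fin 3 → F} (hf : X.SliceFull M w) (t : F) : X.SliceFull M (t • w) := by
  intro a a'
  have := hf (t • a) (t • a')
  simpa using this

theorem sliceFull_all (hM : X.H ≤ M) {w : Fin 3 → F} (hw : q₀ w = 0) (hw0 : w ≠ 0) (hf : X.SliceFull M w)
    {v : Fin 3 → F} (hv : q₀ v = 0) : X.SliceFull M v := by
  by_cases hwv : polar q₀ w v = 0
  · obtain ⟨w', c, E⟩ := X.exists_tri hw hw0
    have hd := Tri.decomp X E v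
    rw [hwv] at hd
    have hc : polar q₀ c v = 0 := by
      have h := hv
      rw [hd, zero_smul, add_zero, QuadraticMap.map_add ⇑q₀, QuadraticMap.map_smul, QuadraticMap.map_smul,
        polar_smul_left, polar_smul_right, E.ec, E.hyp.q₁] at h
      simp only [smul_eq_mul, mul_zero, zero_add, add_zero, mul_eq_zero, inv_eq_zero, or_self, or_iff_left X.two,
        or_iff_right E.ne] at h
      have := X.two
      have := E.ne
      tauto
    rw [hd, hc, zero_smul, add_zero, mul_zero, zero_smul, add_zero]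
    exact X.sliceFull_smul hf _
  · have hd : q₀ (w - v) = -polar q₀ w v := by
      rw [sub_eq_add_neg, QuadraticMap.map_add ⇑q₀, QuadraticMap.map_neg, polar_neg_right, hw, hv]; simp
    set g := refl q₀ (w - v)
    have hr : app g w = v := by
      rw [app_refl, hd, polar_sub_right, polar_self', hw, mul_zero, zero_sub]
      field_simp
      module
    intro x x'
    have hg : X.emb (g, g) ∈ M := hM (X.diag_H g)
    have h := M.mul_mem (M.mul_mem hg (hf (app g⁻¹ x) (app g⁻¹ x'))) (M.inv_mem hg)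
    rwa [eich_conj (X.q_τ_singular _ hw) (by rw [X.polar_τ, polar_self', hw, mul_zero, mul_zero]), X.app_emb,
      X.app_emb, app_app_inv, app_app_inv, hr] at h

theorem Over.sliceFull_flip (hO : X.Over M) {w : Fin 3 → F} (hw : q₀ w = 0) (hw0 : w ≠ 0) (hf : X.SliceFull M w) :
    ∃ v, q₀ v = 0 ∧ v ≠ 0 ∧ X.flip.SliceFull M v := by
  obtain ⟨t, ⟨⟨a, b⟩, rfl⟩, hs⟩ := hO.swap
  refine ⟨app a w, by rw [Q_app, hw], fun h => hw0 (app_injective a (by rw [h, map_zero])), fun x x' => ?_⟩
  have h := M.mul_mem (M.mul_mem hs (hf (app b⁻¹ x) (app b⁻¹ x'))) (M.inv_mem hs)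
  rwa [eich_conj (X.q_τ_singular _ hw) (by rw [X.polar_τ, polar_self', hw, mul_zero, mul_zero]), app_mul, app_mul,
    X.app_σ, X.app_σ, X.app_emb, X.app_emb, app_app_inv, app_app_inv] at h

/-- The vectors whose root elements at the centre `u` lie in `M`. -/
def centre (M : Subgroup (O q)) {u : ι → F} (hu : q u = 0) : Submodule F (ι → F) where
  carrier := {c | polar q u c = 0 ∧ ∀ t : F, eich q u (t • c) ∈ M}
  zero_mem' := ⟨polar_zero_right _ _, fun t => by
    rw [smul_zero, ← zero_smul F u, eich_smul_self hu]; exact M.one_mem⟩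
  add_mem' := fun {c c'} hc hc' => ⟨by rw [polar_add_right, hc.1, hc'.1, add_zero], fun t => by
    rw [smul_add, ← eich_add hu (by rw [polar_smul_right, hc.1, smul_zero])
      (by rw [polar_smul_right, hc'.1, smul_zero])]
    exact M.mul_mem (hc.2 t) (hc'.2 t)⟩
  smul_mem' := fun s c hc => ⟨by rw [polar_smul_right, hc.1, smul_zero], fun t => by
    rw [smul_smul]; exact hc.2 _⟩

include X in
theorem span_singular (y : Fin 3 → F) {w : Fin 3 → F} (hw : q₀ w = 0) (hw0 : w ≠ 0) :
    y ∈ Submodule.span F {v | q₀ v = 0 ∧ polar q₀ w v ≠ 0} := by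
  obtain ⟨w', P⟩ := exists_hyp X.nd₀ hw hw0
  refine P.span_nonorth X.nd₀ X.two (fun h => ?_) y
  have := P.finrank_mid X.nd₀
  rw [h, finrank_bot, Fintype.card_fin] at this
  omega

theorem centre_perp {a w : Fin 3 → F} (ha0 : a ≠ 0) (hw : q₀ w = 0) (hw0 : w ≠ 0)
    (hf : ∀ v, q₀ v = 0 → X.SliceFull M v) {z : Fin 3 → F} (hz : polar q₀ a z = 0) (v : Fin 3 → F) :
    X.τ z v ∈ centre M (X.q_τ_singular a hw) := by
  have hu := X.q_τ_singular a hw
  have hSw : ∀ x, X.τ x w ∈ centre M hu := fun x => ⟨by rw [X.polar_τ, polar_self' (Q := q₀), hw, mul_zero, mul_zero],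
    fun t => by rw [← LinearMap.smul_apply, ← map_smul]; exact hf w hw a _⟩
  obtain ⟨y, hy, hyz⟩ := exists_notMem (S := Submodule.span F {z})
    (Y := OrthTools.orth q₀ (Submodule.span F {a})) (by
    rw [CfsgLib.GeomClasses.OrthTools.finrank_orth X.nd₀, finrank_span_singleton ha0, Fintype.card_fin]
    have := finrank_span_le_card (R := F) ({z} : Set (Fin 3 → F))
    simp at this
    omega)
  obtain ⟨b, hb, hby⟩ := exists_dual X.nd₀ hyz
  have hay := mem_orth_one.1 hy
  induction X.span_singular v hw hw0 using Submodule.span_induction with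
  | mem v' hv' =>
    obtain ⟨hv', hwv⟩ := hv'
    have hyz' : polar q (X.τ y v') (X.τ z v') = 0 := by
      rw [X.polar_τ, polar_self' (Q := q₀), hv', mul_zero, mul_zero]
    set g := eich q (X.τ y v') (X.τ z v') with hg
    have hgu : app g (X.τ a w) = X.τ a w := by
      rw [hg, app_eich (X.q_τ_singular y hv') hyz', X.polar_τ, X.polar_τ, hay, hz, X.q_τ_singular z hv']
      simp
    have hgc : app g (X.τ b w) = X.τ b w + polar q₀ w v' • X.τ z v' := by
      rw [hg, app_eich (X.q_τ_singular y hv') hyz', X.polar_τ, X.polar_τ, polar_comm (f := ⇑q₀) b y, hby,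
        polar_comm (f := ⇑q₀) b z, hb z (Submodule.mem_span_singleton_self z), X.q_τ_singular z hv']
      simp
    have hmem : app g (X.τ b w) ∈ centre M hu := by
      refine ⟨by rw [← hgu, polar_app]; exact (hSw b).1, fun t => ?_⟩
      have h := M.mul_mem (M.mul_mem (hf v' hv' y z) ((hSw b).2 t)) (M.inv_mem (hf v' hv' y z))
      rwa [eich_conj hu (by rw [polar_smul_right, (hSw b).1, smul_zero]), hgu, map_smul] at h
    rw [hgc] at hmem
    exact (Submodule.smul_mem_iff _ hwv).1 (by simpa using sub_mem hmem (hSw b))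
  | zero => rw [map_zero]; exact zero_mem _
  | add v v' _ _ hv hv' => rw [map_add]; exact add_mem hv hv'
  | smul t v _ hv => rw [map_smul]; exact Submodule.smul_mem _ t hv

theorem full_centre {a w : Fin 3 → F} (ha : q₀ a = 0) (ha0 : a ≠ 0) (hw : q₀ w = 0) (hw0 : w ≠ 0)
    (hf : ∀ v, q₀ v = 0 → X.SliceFull M v) (hf' : ∀ v, q₀ v = 0 → X.flip.SliceFull M v) :
    OrthEich.Full M (X.τ a w) := by
  have hu := X.q_τ_singular a hw
  refine ⟨hu, fun c hc => ?_⟩
  set S := centre M hu with hS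
  have hright : ∀ z v, polar q₀ w v = 0 → X.τ z v ∈ S := fun z v hv => by
    have := X.flip.centre_perp hw0 ha ha0 hf' hv z
    simpa only [X.flip_τ] using this
  have hperp : ∀ z v, polar q₀ a z = 0 → X.τ z v ∈ S := fun z v hz => X.centre_perp ha0 hw hw0 hf hz v
  suffices c ∈ S by simpa using this.2 1
  rw [← LinearMap.BilinForm.orthogonal_orthogonal X.nd (polarBilin_isRefl X.nd) S,
    LinearMap.BilinForm.mem_orthogonal_iff]
  intro z hz
  rw [LinearMap.BilinForm.mem_orthogonal_iff] at hz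
  show polar q z c = 0
  obtain ⟨r, hr⟩ := exists_polar_eq_one X.nd₀ ha0
  obtain ⟨w', P⟩ := exists_hyp X.nd₀ hw hw0
  have hC : ∀ φ, X.C φ z = (polar q₀ w φ * polar q₀ (X.C w' z) r) • a := by
    intro φ
    refine ext_polar X.nd₀ fun b => ?_
    have h1 : ∀ φ b, polar q₀ w φ = 0 → polar q₀ (X.C φ z) b = 0 := fun φ b h => by
      rw [X.polar_C, polar_comm]; exact hz _ (hright b φ h)
    have h2 : polar q₀ (X.C φ z) b = polar q₀ w φ * polar q₀ (X.C w' z) b := by
      have := h1 (φ - polar q₀ w φ • w') b (by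
        rw [polar_sub_right, polar_smul_right, P.pair, smul_eq_mul, mul_one, sub_self])
      rw [X.C_sub, X.C_smul, polar_sub_left, polar_smul_left, smul_eq_mul] at this
      linear_combination this
    have h3 : polar q₀ (X.C w' z) b = polar q₀ (X.C w' z) r * polar q₀ a b := by
      have hb : polar q₀ a (b - polar q₀ a b • r) = 0 := by
        rw [polar_sub_right, polar_smul_right, hr, smul_eq_mul, mul_one, sub_self]
      have := hz _ (hperp (b - polar q₀ a b • r) w' hb)
      change polar q _ z = 0 at this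
      rw [polar_comm, ← X.polar_C, polar_sub_right, polar_smul_right, smul_eq_mul] at this
      linear_combination this
    rw [h2, h3, polar_smul_left, smul_eq_mul]
    ring
  have hz' : z = polar q₀ (X.C w' z) r • X.τ a w := by
    refine sub_eq_zero.1 (X.eq_zero fun φ => ?_)
    rw [map_sub, map_smul, X.C_τ, hC, smul_smul, mul_comm, sub_self]
  rw [hz', polar_smul_left, hc, smul_zero]

/-- A proper overgroup contains no isometry which is the identity modulo a singular slice. -/
theorem Over.inZ_eq_one (hO : X.Over M) {w w' : Fin 3 → F} (P : Hyp q₀ w w') {y : O q} (hy : y ∈ M)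
    (hz : X.InZ w y) : y = 1 := by
  obtain ⟨K, hK, rfl⟩ := X.exists_zel P hz
  by_contra hne
  refine hO.proper ?_
  have hfw : X.SliceFull M w := X.sliceFull_of_ne hO.le P.q₁ (K := K) ⟨hK, hy⟩ fun h => hne (by
    subst h
    exact ext_app fun z => by rw [X.app_zel P.q₁ hK, app_one]; simp)
  have hf : ∀ v, q₀ v = 0 → X.SliceFull M v := fun v hv => X.sliceFull_all hO.le P.q₁ P.ne₁ hfw hv
  obtain ⟨v₀, hv₀, hv₀0, hfv⟩ := Over.sliceFull_flip X hO P.q₁ P.ne₁ hfw
  have hf' : ∀ v, q₀ v = 0 → X.flip.SliceFull M v := fun v hv =>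
    X.flip.sliceFull_all (X.H_flip ▸ hO.le) hv₀ hv₀0 hfv hv
  have hw' : w' ≠ 0 := fun h => one_ne_zero (by rw [← P.pair, h, polar_zero_right])
  refine CfsgLib.GeomClasses.OrthEich.commutator_le_of_pair X.nd (by rw [X.nine]; norm_num)
    (X.full_centre P.q₁ P.ne₁ P.q₁ P.ne₁ hf hf') (X.full_centre P.q₂ hw' P.q₂ hw' hf hf') ?_
  rw [X.polar_τ, P.pair', mul_one]
  exact one_ne_zero

end Setting

end CfsgLib.TensorThree63
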