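import Cfsg.Agent.Lib.TensorThree63.Main
import Cfsg.Agent.Lib.GeomClasses.OrthPair
import Cfsg.Agent.Lib.Geo.AschOrthNineProper
import Cfsg.Agent.Lib.TensorWreathMax.Classify
import Cfsg.Agent.Lib.Maximal99.OrthUnipotent
import Cfsg.Prelude.Def_GeometricClasses

/-!
The stabiliser of a tensor square decomposition in the orthogonal group of dimension nine is maximal.
-/

set_option autoImplicit false
set_option linter.unusedSectionVars false
set_option linter.unusedSimpArgs false

namespace CfsgLib.TensorThree63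

open Matrix QuadraticMap CfsgLib.Orth Cfsg.Geo
open CfsgLib.Maximal.TensorPower (tp pm pm_mulVec tp_single isMonomial_of_mem IsMonomial)
open CfsgLib.Maximal.TensorTools (quadOf quadOf_coe coord coord_apply conj_reindex_mulVec)

theorem omega_eq_of_isometryGroup_eq {ι : Type} [Fintype ι] [DecidableEq ι] {F : Type*} [Field F]
    {Q Q' : (ι → F) → F} (h : Cfsg.isometryGroup F Q = Cfsg.isometryGroup F Q') : omegaGL Q = omegaGL Q' := by
  have key : ∀ K L : Subgroup (GL ι F), K = L →
      (commutator K).map K.subtype = (commutator L).map L.subtype := by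
    rintro K L rfl; rfl
  exact key _ _ h

variable {ι : Type} [Fintype ι] [DecidableEq ι] {F : Type*} [Field F]

theorem two_tp (a b : Fin 3 → F) (s : Fin 2 → Fin 3) : tp ![a, b] s = a (s 0) * b (s 1) := by
  simp [tp, Fin.prod_univ_two]

/-- Pure tensors in coordinates. -/
noncomputable def tauMap (e : ι ≃ (Fin 2 → Fin 3)) (P : GL ι F) :
    (Fin 3 → F) →ₗ[F] (Fin 3 → F) →ₗ[F] (ι → F) :=
  LinearMap.mk₂ F (fun a b => coord e P (tp ![a, b]))
    (fun a a' b => by
      rw [← map_add]; congr 1; funext s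
      simp only [two_tp, Pi.add_apply, add_mul])
    (fun t a b => by
      rw [← map_smul]; congr 1; funext s
      simp only [two_tp, Pi.smul_apply, smul_eq_mul, mul_assoc])
    (fun a b b' => by
      rw [← map_add]; congr 1; funext s
      simp only [two_tp, Pi.add_apply, mul_add])
    (fun t a b => by
      rw [← map_smul]; congr 1; funext s
      simp only [two_tp, Pi.smul_apply, smul_eq_mul, mul_left_comm])

theorem tauMap_apply (e : ι ≃ (Fin 2 → Fin 3)) (P : GL ι F) (a b : Fin 3 → F) :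
    tauMap e P a b = coord e P (tp ![a, b]) := rfl

theorem span_tauMap (e : ι ≃ (Fin 2 → Fin 3)) (P : GL ι F) :
    Submodule.span F (Set.range fun p : (Fin 3 → F) × (Fin 3 → F) => tauMap e P p.1 p.2) = ⊤ := by
  have h1 : Set.range (fun b : Fin 2 → Fin 3 => coord e P (Pi.single b 1)) ⊆
      Set.range fun p : (Fin 3 → F) × (Fin 3 → F) => tauMap e P p.1 p.2 := by
    rintro _ ⟨b, rfl⟩
    refine ⟨(Pi.single (b 0) 1, Pi.single (b 1) 1), ?_⟩
    show coord e P (tp ![Pi.single (b 0) (1 : F), Pi.single (b 1) 1]) = coord e P (Pi.single b 1)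
    rw [← tp_single b]
    congr 2
  rw [eq_top_iff, ← ((Pi.basisFun F (Fin 2 → Fin 3)).map (coord e P)).span_eq]
  refine Submodule.span_mono (le_trans ?_ h1)
  rintro _ ⟨b, rfl⟩
  exact ⟨b, by simp⟩

variable [Fintype F] [DecidableEq F] {q : QuadraticForm F (ι → F)} {q₀ : QuadraticForm F (Fin 3 → F)}
  (X : Setting q q₀)

namespace Setting

include X in
/-- A similitude in dimension three has square multiplier. -/
theorem similitude (A : (Fin 3 → F) →ₗ[F] (Fin 3 → F)) {l : F} (hl : l ≠ 0)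
    (hA : ∀ x y, polar q₀ (A x) (A y) = l * polar q₀ x y) : ∃ r : F, r ≠ 0 ∧ r * r = l := by
  set G := LinearMap.BilinForm.toMatrix' q₀.polarBilin with hG
  have hGd : G.det ≠ 0 :=
    Matrix.nondegenerate_iff_det_ne_zero.1 (LinearMap.BilinForm.nondegenerate_toMatrix'_iff.2 X.nd₀)
  have h : LinearMap.BilinForm.comp q₀.polarBilin A A = l • q₀.polarBilin :=
    LinearMap.ext fun x => LinearMap.ext fun y => hA x y
  have h1 := congrArg (fun B => (LinearMap.BilinForm.toMatrix' B).det) h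
  simp only [LinearMap.BilinForm.toMatrix'_comp, map_smul, Matrix.det_mul, Matrix.det_transpose, Matrix.det_smul,
    Fintype.card_fin, ← hG] at h1
  set D := (LinearMap.toMatrix' A).det
  have h2 : D * D = l ^ 3 := mul_right_cancel₀ hGd (by linear_combination h1)
  refine ⟨D / l, div_ne_zero (fun h => hl ?_) hl, ?_⟩
  · rw [h, mul_zero] at h2
    exact (pow_eq_zero_iff (n := 3) (by norm_num)).1 h2.symm
  · field_simp
    linear_combination h2

/-- An isometry carrying pure tensors to pure tensors factorwise preserves the decomposition. -/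
theorem mem_T_of_factor {g : O q} (A B : (Fin 3 → F) →ₗ[F] (Fin 3 → F))
    (h : ∀ a b, app g (X.τ a b) = X.τ (A a) (B b)) : g ∈ X.T := by
  obtain ⟨e, he⟩ := exists_anisotropic X.nd₀ (by simp)
  have he2 : polar q₀ e e ≠ 0 := by rw [polar_self']; exact mul_ne_zero X.two he
  have hp : ∀ a b a' b', polar q₀ (A a) (A a') * polar q₀ (B b) (B b') = polar q₀ a a' * polar q₀ b b' :=
    fun a b a' b' => by rw [← X.polar_τ, ← X.polar_τ, ← h, ← h, polar_app]
  set μ := polar q₀ (B e) (B e) with hμ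
  have hμ0 : μ ≠ 0 := fun h0 => by
    have := hp e e e e
    rw [← hμ, h0, mul_zero] at this
    exact mul_ne_zero he2 he2 this.symm
  set l := polar q₀ e e / μ with hl
  have hA : ∀ a a', polar q₀ (A a) (A a') = l * polar q₀ a a' := fun a a' => by
    rw [hl, div_mul_eq_mul_div, eq_div_iff hμ0, mul_comm (polar q₀ e e)]
    exact hp a e a' e
  have hl0 : l ≠ 0 := div_ne_zero he2 hμ0
  obtain ⟨r, hr0, hr⟩ := X.similitude A hl0 hA
  have hB : ∀ b b', polar q₀ (B b) (B b') = l⁻¹ * polar q₀ b b' := fun b b' => by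
    have := hp e b e b'
    rw [hA] at this
    refine mul_left_cancel₀ hl0 ?_
    rw [mul_inv_cancel_left₀ hl0]
    exact mul_left_cancel₀ he2 (by linear_combination this)
  have mk : ∀ f : (Fin 3 → F) →ₗ[F] (Fin 3 → F), (∀ x y, polar q₀ (f x) (f y) = polar q₀ x y) →
      ∃ u : O q₀, ∀ x, app u x = f x := by
    intro f hf
    have hfi : Function.Injective f := fun x y hxy => by
      refine sub_eq_zero.1 (eq_zero_of_polar X.nd₀ fun z => ?_)
      rw [← hf, map_sub, hxy, sub_self, polar_zero_left]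
    have hfq : ∀ x, q₀ (f x) = q₀ x := fun x => by
      have := hf x x
      rw [polar_self', polar_self'] at this
      exact mul_left_cancel₀ X.two this
    exact ⟨CfsgLib.OrthOmega.ofEquiv (LinearEquiv.ofInjectiveEndo f hfi) fun x => hfq x, fun x =>
      CfsgLib.OrthOmega.app_ofEquiv (Q := q₀) (LinearEquiv.ofInjectiveEndo f hfi) (fun x => hfq x) x⟩
  obtain ⟨u, hu⟩ := mk (r⁻¹ • A) fun x y => by
    rw [LinearMap.smul_apply, LinearMap.smul_apply, polar_smul_left, polar_smul_right, hA, ← hr, smul_eq_mul,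
      smul_eq_mul]
    field_simp
  obtain ⟨v, hv⟩ := mk (r • B) fun x y => by
    rw [LinearMap.smul_apply, LinearMap.smul_apply, polar_smul_left, polar_smul_right, hB, ← hr, smul_eq_mul,
      smul_eq_mul]
    field_simp
  refine ⟨(u, v), X.ext_O fun a b => ?_⟩
  rw [X.app_emb, h, hu, hv]
  simp [smul_smul, mul_inv_cancel₀ hr0, inv_mul_cancel₀ hr0]

/-- An isometry carrying pure tensors to exchanged pure tensors preserves the decomposition up to the exchange. -/
theorem inTw_of_factor {g : O q} (A B : (Fin 3 → F) →ₗ[F] (Fin 3 → F))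
    (h : ∀ a b, app g (X.τ a b) = X.τ (A b) (B a)) : X.InTw g :=
  Or.inr (X.mem_T_of_factor A B fun a b => by rw [app_mul, X.app_σ, h])

/-- Some element of the stabiliser followed by the exchange lies in `Ω`. -/
theorem exists_swap : ∃ t ∈ X.T, t * X.σ ∈ commutator (O q) := by
  obtain ⟨e, he⟩ := X.chi₁ X.d_spec
  obtain ⟨a, ha, hχ, -⟩ := X.exists_good
  obtain ⟨c, -, hc⟩ := X.conj_flip ha ha rfl (e.symm (chiPair q X.d X.σ))
  refine ⟨X.emb (c, 1), X.emb_mem_T _, ?_⟩
  rw [commutator_eq X.nd X.two X.d_spec, MonoidHom.mem_ker, map_mul, he]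
  rw [show chiPair q₀ X.d c = e.symm (chiPair q X.d X.σ) from hc, MulEquiv.apply_symm_apply]
  exact Prod.ext (Int.units_mul_self _) (Int.units_mul_self _)

end Setting

omit [DecidableEq F] in
/-- The stabiliser of a tensor square decomposition in dimension nine is maximal in `Ω`. -/
theorem omega9_tensor_wreath_maximal (hodd : Odd (Fintype.card F)) (h5 : 5 ≤ Fintype.card F)
    (e : (Unit ⊕ (Fin 4 ⊕ Fin 4)) ≃ (Fin 2 → Fin 3))
    (P : Matrix.GeneralLinearGroup (Unit ⊕ (Fin 4 ⊕ Fin 4)) F) (f₁ : (Fin 3 → F) → (Fin 3 → F) → F)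
    (hf : Cfsg.Geo.IsSymmetricForm f₁)
    (hT : Cfsg.Geo.IsTensorPowerFormStructure id (QuadraticMap.polar (Cfsg.quadFormOdd 4 F)) f₁ e P) :
    Cfsg.Geo.IsMaximalIn (Cfsg.Geo.omegaGL (Cfsg.quadFormOdd 4 F))
      (Cfsg.Geo.tensorWreathSubgroup 3 2 e P ⊓ Cfsg.Geo.omegaGL (Cfsg.quadFormOdd 4 F)) := by
  classical
  have h2 : (2 : F) ≠ 0 := CfsgLib.Geo.Asch.two_ne_zero_of_odd hodd
  set Q := Cfsg.quadFormOdd 4 F with hQdef
  have hQ : IsNondegenerateQuadraticForm Q := CfsgLib.OrthUnipotent.odd_nondeg 4 h2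
  obtain ⟨c, hc, hform⟩ := hT
  let Q' : (Unit ⊕ (Fin 4 ⊕ Fin 4) → F) → F := fun x => c⁻¹ * Q x
  have hpol : ∀ x y, polar Q' x y = c⁻¹ * polar Q x y := fun x y => by
    simp only [QuadraticMap.polar, Q']; ring
  have hQ' : IsNondegenerateQuadraticForm Q' := by
    refine ⟨fun s v => by show c⁻¹ * Q (s • v) = s ^ 2 * (c⁻¹ * Q v); rw [hQ.smul]; ring,
      ⟨fun x y v => by rw [hpol, hpol, hpol, hQ.polar_bilinear.add_left, mul_add],
        fun s x v => by rw [hpol, hpol, hQ.polar_bilinear.smul_left]; ring,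
        fun v x y => by rw [hpol, hpol, hpol, hQ.polar_bilinear.add_right, mul_add],
        fun s v x => by rw [hpol, hpol, hQ.polar_bilinear.smul_right]; ring⟩, fun v hv => ?_⟩
    obtain ⟨⟨x, hx⟩, y, hy⟩ := hQ.nondegenerate v hv
    exact ⟨⟨x, by rw [hpol]; exact mul_ne_zero (inv_ne_zero hc) hx⟩,
      y, by rw [hpol]; exact mul_ne_zero (inv_ne_zero hc) hy⟩
  have hiso : Cfsg.isometryGroup F Q = Cfsg.isometryGroup F Q' := by
    refine le_antisymm (fun g hg u v => ?_) fun g hg u v => ?_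
    · show c⁻¹ * _ = c⁻¹ * _
      exact congrArg (c⁻¹ * ·) (hg u v)
    · exact mul_left_cancel₀ (inv_ne_zero hc) (hg u v)
  have hΩ : omegaGL Q = omegaGL Q' := omega_eq_of_isometryGroup_eq hiso
  -- the factor
  let Q₀ : (Fin 3 → F) → F := fun x => (2 : F)⁻¹ * f₁ x x
  have hpol₀ : ∀ x y, polar Q₀ x y = f₁ x y := fun x y => by
    simp only [QuadraticMap.polar, Q₀]
    rw [hf.bilinear.add_left, hf.bilinear.add_right, hf.bilinear.add_right, hf.symm y x]
    field_simp
    ring
  have hQ₀ : IsNondegenerateQuadraticForm Q₀ := by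
    refine ⟨fun s v => ?_, ?_, ?_⟩
    · show (2 : F)⁻¹ * f₁ (s • v) (s • v) = s ^ 2 * ((2 : F)⁻¹ * f₁ v v)
      rw [hf.bilinear.smul_left, hf.bilinear.smul_right]; ring
    · rw [show polar Q₀ = f₁ from funext fun x => funext fun y => hpol₀ x y]
      exact hf.bilinear
    · rw [show polar Q₀ = f₁ from funext fun x => funext fun y => hpol₀ x y]
      exact hf.nondegenerate
  set q := quadOf hQ' with hq
  set q₀ := quadOf hQ₀ with hq₀
  -- the form on pure tensors
  let G : Matrix (Fin 3) (Fin 3) F := Cfsg.Geo.gramMatrix f₁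
  have hG : ∀ x y, f₁ x y = x ⬝ᵥ (G *ᵥ y) := by
    intro x y
    let B : (Fin 3 → F) →ₗ[F] (Fin 3 → F) →ₗ[F] F :=
      LinearMap.mk₂ F f₁ hf.bilinear.add_left hf.bilinear.smul_left hf.bilinear.add_right
        fun s v x => hf.bilinear.smul_right s v x
    have h := congrArg (fun B' => B' x y) (Matrix.toLinearMap₂'_toMatrix' (R := F) B)
    simp only [Matrix.toLinearMap₂'_apply'] at h
    rw [show G = LinearMap.toMatrix₂' F B from Matrix.ext fun a b => by
      rw [LinearMap.toMatrix₂'_apply]; rfl]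
    exact h.symm
  have hsum : ∀ xs ys : Fin 2 → Fin 3 → F,
      polar Q (coord e P (tp xs)) (coord e P (tp ys)) = c * ∏ i, f₁ (xs i) (ys i) := by
    intro xs ys
    rw [coord_apply, coord_apply, hform]
    congr 1
    have h : (tp xs ⬝ᵥ (pm (fun _ : Fin 2 => G) *ᵥ tp ys)) = ∏ i, f₁ (xs i) (ys i) := by
      rw [pm_mulVec, CfsgLib.TensorWreathMax.dot_tp]
      exact Finset.prod_congr rfl fun i _ => (hG _ _).symm
    rw [← h]
    simp only [dotProduct, Matrix.mulVec, pm, Finset.mul_sum, id, mul_assoc]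
    rfl
  let X : Setting q q₀ :=
    { τ := tauMap e P
      two := h2
      five := h5
      nine := by simp
      nd := CfsgLib.GeomClasses.OrthTools.quadOf_nondegenerate hQ'
      nd₀ := CfsgLib.GeomClasses.OrthTools.quadOf_nondegenerate hQ₀
      polar_τ := fun a b a' b' => by
        rw [quadOf_coe, quadOf_coe, hpol, tauMap_apply, tauMap_apply, hsum, hpol₀, hpol₀, Fin.prod_univ_two,
          inv_mul_cancel_left₀ hc]
        simp
      span := span_tauMap e P }
  set S := tensorWreathSubgroup 3 2 e P with hS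
  have hmem : ∀ g : O q, (g : GL _ F) ∈ S ↔ X.InTw g := by
    intro g
    constructor
    · rintro ⟨_, ⟨y, hy, rfl⟩, hg⟩
      obtain ⟨σ, as, hmon⟩ := isMonomial_of_mem hy
      have hact : ∀ a b, app g (X.τ a b) = X.τ ((as 0 : Matrix (Fin 3) (Fin 3) F) *ᵥ ![a, b] (σ 0))
          ((as 1 : Matrix (Fin 3) (Fin 3) F) *ᵥ ![a, b] (σ 1)) := by
        intro a b
        show app g (coord e P (tp ![a, b])) = _
        rw [app_apply, show (g : GL (Unit ⊕ (Fin 4 ⊕ Fin 4)) F) = _ from hg.symm]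
        refine (conj_reindex_mulVec e P y _).trans ?_
        show coord e P _ = coord e P _
        rw [hmon]
        congr 2
      have hcases : (σ 0 = 0 ∧ σ 1 = 1) ∨ (σ 0 = 1 ∧ σ 1 = 0) := by
        have key : ∀ σ : Equiv.Perm (Fin 2), (σ 0 = 0 ∧ σ 1 = 1) ∨ (σ 0 = 1 ∧ σ 1 = 0) := by decide
        exact key σ
      rcases hcases with ⟨h0, h1⟩ | ⟨h0, h1⟩
      · refine Or.inl (X.mem_T_of_factor (Matrix.toLin' (as 0 : Matrix (Fin 3) (Fin 3) F))
          (Matrix.toLin' (as 1 : Matrix (Fin 3) (Fin 3) F)) fun a b => ?_)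
        rw [hact, h0, h1]; rfl
      · refine X.inTw_of_factor (Matrix.toLin' (as 0 : Matrix (Fin 3) (Fin 3) F))
          (Matrix.toLin' (as 1 : Matrix (Fin 3) (Fin 3) F)) fun a b => ?_
        rw [hact, h0, h1]; rfl
    · intro hg
      obtain ⟨σ, A, B, hact⟩ : ∃ (σ : Equiv.Perm (Fin 2)) (A B : O q₀), ∀ xs : Fin 2 → Fin 3 → F,
          app g (X.τ (xs 0) (xs 1)) = X.τ (app A (xs (σ 0))) (app B (xs (σ 1))) := by
        rcases hg with ⟨⟨A, B⟩, rfl⟩ | ⟨⟨A, B⟩, hAB⟩
        · exact ⟨1, A, B, fun xs => by rw [X.app_emb]; rfl⟩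
        · refine ⟨Equiv.swap 0 1, A, B, fun xs => ?_⟩
          rw [show g = X.emb (A, B) * X.σ by rw [hAB, mul_assoc, X.σ_σ, mul_one], app_mul, X.app_σ, X.app_emb]
          simp
      let φ : GL (Unit ⊕ (Fin 4 ⊕ Fin 4)) F := g
      let y : GL (Fin 2 → Fin 3) F := glReindex e ((MulAut.conj P).symm φ)
      have hφ : φ = MulAut.conj P (glReindex e.symm y) := by
        have e1 : glReindex e.symm (glReindex e ((MulAut.conj P).symm φ)) = (MulAut.conj P).symm φ :=
          Units.ext (by simp [glReindex])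
        rw [show y = glReindex e ((MulAut.conj P).symm φ) from rfl, e1, MulEquiv.apply_symm_apply]
      have hy : IsMonomial y := by
        refine ⟨σ, ![(A : GL (Fin 3) F), (B : GL (Fin 3) F)], fun xs => (coord e P).injective ?_⟩
        rw [← conj_reindex_mulVec, ← hφ]
        have hxs : xs = ![xs 0, xs 1] := by funext i; fin_cases i <;> rfl
        rw [hxs]
        refine (hact xs).trans ?_
        show coord e P _ = coord e P _
        congr 2
        rw [← hxs]
        funext i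
        fin_cases i <;> rfl
      exact ⟨_, ⟨y, CfsgLib.TensorWreathMax.mem_standard hy, rfl⟩, hφ.symm⟩
  have hproper : ¬ omegaGL Q ≤ S :=
    CfsgLib.Geo.Asch.omega_not_le_wreath_two hQ (by simp) h2 le_rfl e P
  rw [hΩ]
  refine CfsgLib.GeomClasses.OrthPair.maximal_transport hQ' ?_
  refine ⟨lt_of_le_of_ne inf_le_right fun heq => hproper ?_, fun M h1 hMΩ => ?_⟩
  · rw [hΩ]
    rintro _ ⟨g, hg, rfl⟩
    exact (heq.ge hg).1
  rcases eq_or_ne M (commutator (O q)) with h | h
  · exact Or.inr h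
  refine Or.inl (le_antisymm (fun g hg => ⟨?_, hMΩ hg⟩) h1)
  have hO : X.Over M := by
    refine ⟨fun g hg => h1 ⟨(hmem g).2 (Or.inl hg.1), hg.2⟩, hMΩ, fun hle => h (le_antisymm hMΩ hle), ?_⟩
    obtain ⟨t, ht, htσ⟩ := X.exists_swap
    have hw : X.InTw (t * X.σ) := Or.inr (by rw [mul_assoc, X.σ_σ, mul_one]; exact ht)
    exact ⟨t, ht, h1 (Subgroup.mem_inf.2 ⟨Subgroup.mem_comap.2 ((hmem (t * X.σ)).2 hw), htσ⟩)⟩
  exact (hmem g).2 (Setting.Over.inTw X hO hg)

end CfsgLib.TensorThree63
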